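import Cfsg.Agent.H87.U43.Defs
import Cfsg.Agent.H63.UFour.LData

/-!
# The group `L` of order 360: finite facts
-/

set_option autoImplicit false

namespace H63.UFour

open H87.U43

theorem vec_cases (v : V4) : ∃ a b c d : ZMod 3, v = ![a, b, c, d] :=
  ⟨v 0, v 1, v 2, v 3, by funext r; fin_cases r <;> rfl⟩

/-- explicit product -/
def mulM (g m : M4) (r k : Fin 4) : ZMod 3 :=
  g r 0 * m 0 k + g r 1 * m 1 k + g r 2 * m 2 k + g r 3 * m 3 k

theorem mul_eq_of (g m n : M4) (h : ∀ r k, mulM g m r k = n r k) : g * m = n := by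
  ext r k
  rw [← h r k, Matrix.mul_apply, Fin.sum_univ_four]; rfl

theorem app_one (v : V4) : app 1 v = v := by
  rw [app_eq_mulVec, Matrix.one_mulVec]

theorem app_mul (m n : M4) (v : V4) : app (m * n) v = app m (app n v) := by
  simp only [app_eq_mulVec, Matrix.mulVec_mulVec]

theorem app_add (m : M4) (u v : V4) : app m (u + v) = app m u + app m v := by
  simp only [app_eq_mulVec, Matrix.mulVec_add]

theorem app_smul (m : M4) (c : ZMod 3) (v : V4) : app m (c • v) = c • app m v := by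
  simp only [app_eq_mulVec, Matrix.mulVec_smul]

theorem app_neg (m : M4) (v : V4) : app m (-v) = -app m v := by
  simp only [app_eq_mulVec, Matrix.mulVec_neg]

theorem app_zero (m : M4) : app m 0 = 0 := by
  simp only [app_eq_mulVec, Matrix.mulVec_zero]

theorem app_injective {m n : M4} (h : ∀ v, app m v = app n v) : m = n := by
  ext r k
  have := congr_fun (h (fun l => if l = k then 1 else 0)) r
  fin_cases k <;> simpa [app] using this

/-! ## decoding -/

def dec (n : Nat) : M4 :=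
  Matrix.of fun r k => (⟨n / 3 ^ (4 * r.1 + k.1) % 3, Nat.mod_lt _ (by decide)⟩ : Fin 3)

def lMat (i : Nat) : M4 := dec (lCodes.getD i 0)

def g5 : Fin 5 → M4 := ![zMat, sMat, tauMat, siegel 1 0, siegel 0 1]

theorem lMat_zero : lMat 0 = 1 := by decide +kernel

theorem lParents_ok : ∀ i : Fin 359, (lParents.getD i.1 (0, 0)).2 < i.1 + 1 ∧
    (lParents.getD i.1 (0, 0)).1 < 5 ∧
    (List.range 4).all (fun r => (List.range 4).all fun k =>
      decide (mulM (g5 (Fin.ofNat 5 (lParents.getD i.1 (0, 0)).1))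
        (lMat (lParents.getD i.1 (0, 0)).2) (Fin.ofNat 4 r) (Fin.ofNat 4 k) =
        lMat (i.1 + 1) (Fin.ofNat 4 r) (Fin.ofNat 4 k))) := by decide +kernel

theorem lMul_ok : ∀ g : Fin 5, ∀ i : Fin 360, ((lMul.getD g.1 []).getD i.1 0) < 360 ∧
    (List.range 4).all (fun r => (List.range 4).all fun k =>
      decide (mulM (g5 g) (lMat i.1) (Fin.ofNat 4 r) (Fin.ofNat 4 k) =
        lMat ((lMul.getD g.1 []).getD i.1 0) (Fin.ofNat 4 r) (Fin.ofNat 4 k))) := by
  decide +kernel

theorem mul_of_all {g m n : M4}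
    (h : (List.range 4).all (fun r => (List.range 4).all fun k =>
      decide (mulM g m (Fin.ofNat 4 r) (Fin.ofNat 4 k) = n (Fin.ofNat 4 r) (Fin.ofNat 4 k))) = true) :
    g * m = n := by
  refine mul_eq_of g m n fun r k => ?_
  rw [List.all_eq_true] at h
  have h1 := h r.1 (List.mem_range.2 r.2)
  rw [List.all_eq_true] at h1
  have h2 := h1 k.1 (List.mem_range.2 k.2)
  simpa using h2

/-- words in the five generators -/
inductive InC : M4 → Prop
  | one : InC 1
  | mul (i : Fin 5) {m : M4} (h : InC m) : InC (g5 i * m)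

theorem InC.comp {m n : M4} (hm : InC m) (hn : InC n) : InC (m * n) := by
  induction hm with
  | one => rwa [one_mul]
  | mul i _ ih => rw [mul_assoc]; exact .mul i ih

theorem inC_lMat : ∀ i, i < 360 → InC (lMat i) := by
  intro i
  induction i using Nat.strong_induction_on with
  | _ i ih =>
    intro hi
    match i with
    | 0 => rw [lMat_zero]; exact .one
    | j + 1 =>
      obtain ⟨h1, -, h3⟩ := lParents_ok ⟨j, by omega⟩
      rw [← mul_of_all h3]
      exact .mul _ (ih _ h1 (by omega))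

theorem InC.exists_idx {m : M4} (hm : InC m) : ∃ i, i < 360 ∧ lMat i = m := by
  induction hm with
  | one => exact ⟨0, by omega, lMat_zero⟩
  | mul g _ ih =>
    obtain ⟨i, hi, rfl⟩ := ih
    obtain ⟨h1, h2⟩ := lMul_ok g ⟨i, hi⟩
    exact ⟨_, h1, (mul_of_all h2).symm⟩

/-! ## `InL` is the list -/

theorem inL_one : InL 1 := ⟨1, one_mem _, rfl⟩

theorem InL_mul {m n : M4} (hm : InL m) (hn : InL n) : InL (m * n) := by
  obtain ⟨g, hg, rfl⟩ := hm
  obtain ⟨h, hh, rfl⟩ := hn
  exact ⟨g * h, mul_mem hg hh, rfl⟩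

theorem InL_pow {m : M4} (hm : InL m) (k : ℕ) : InL (m ^ k) := by
  induction k with
  | zero => exact pow_zero m ▸ inL_one
  | succ k ih => exact pow_succ m k ▸ InL_mul ih hm

theorem InL_inv {m : M4} (hm : InL m) : ∃ n, InL n ∧ n * m = 1 ∧ m * n = 1 := by
  obtain ⟨g, hg, rfl⟩ := hm
  exact ⟨_, ⟨g⁻¹, inv_mem hg, rfl⟩, g.inv_val, g.val_inv⟩

theorem inL_of_gen {g : GL (Fin 4) (ZMod 3)} (h : g.1 = zMat ∨ g.1 = sMat ∨ g.1 = spMat ∨
    g.1 = eMat ∨ ∃ c d : ZMod 3, g.1 = siegel c d) : InL g.1 :=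
  ⟨g, Subgroup.subset_closure h, rfl⟩

theorem inL_z : InL zMat := inL_of_gen (g := ⟨zMat, zMat, by decide +kernel, by decide +kernel⟩)
  (Or.inl rfl)

theorem inL_s : InL sMat := inL_of_gen (g := ⟨sMat, sMat, by decide +kernel, by decide +kernel⟩)
  (Or.inr (Or.inl rfl))

theorem inL_sp : InL spMat :=
  inL_of_gen (g := ⟨spMat, spMat, by decide +kernel, by decide +kernel⟩)
    (Or.inr (Or.inr (Or.inl rfl)))

theorem inL_siegel (c d : ZMod 3) : InL (siegel c d) := by
  refine inL_of_gen (g := ⟨siegel c d, siegel (-c) (-d), ?_, ?_⟩)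
    (Or.inr (Or.inr (Or.inr (Or.inr ⟨c, d, rfl⟩))))
  · revert c d; decide +kernel
  · revert c d; decide +kernel

theorem inL_tau : InL tauMat := InL_mul inL_s inL_sp

theorem inL_g5 (i : Fin 5) : InL (g5 i) := by
  fin_cases i
  · exact inL_z
  · exact inL_s
  · exact inL_tau
  · exact inL_siegel 1 0
  · exact inL_siegel 0 1

theorem InC.inL {m : M4} (h : InC m) : InL m := by
  induction h with
  | one => exact inL_one
  | mul i _ ih => exact InL_mul (inL_g5 i) ih

theorem gens_listed : (∀ i : Fin 4, ∃ j : Fin 360,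
      lMat j.1 = (![zMat, sMat, spMat, eMat] : Fin 4 → M4) i) ∧
    ∀ c d : ZMod 3, ∃ j : Fin 360, lMat j.1 = siegel c d := by decide +kernel

theorem inC_of_gen {m : M4} (h : m = zMat ∨ m = sMat ∨ m = spMat ∨ m = eMat ∨
    ∃ c d : ZMod 3, m = siegel c d) : InC m := by
  have key : ∀ i : Fin 4, InC ((![zMat, sMat, spMat, eMat] : Fin 4 → M4) i) := fun i => by
    obtain ⟨j, hj⟩ := gens_listed.1 i
    exact hj ▸ inC_lMat j.1 j.2
  rcases h with rfl | rfl | rfl | rfl | ⟨c, d, rfl⟩
  · exact key 0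
  · exact key 1
  · exact key 2
  · exact key 3
  · obtain ⟨j, hj⟩ := gens_listed.2 c d
    exact hj ▸ inC_lMat j.1 j.2

theorem inC_of_inL {m : M4} (h : InL m) : InC m := by
  obtain ⟨g, hg, rfl⟩ := h
  have hg' : g ∈ Submonoid.closure {g : GL (Fin 4) (ZMod 3) | g.1 = zMat ∨ g.1 = sMat ∨
      g.1 = spMat ∨ g.1 = eMat ∨ ∃ c d : ZMod 3, g.1 = siegel c d} := by
    rw [← Subgroup.closure_toSubmonoid_of_finite]; exact hg
  clear hg
  induction hg' using Submonoid.closure_induction with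
  | mem x hx => exact inC_of_gen hx
  | one => exact .one
  | mul x y _ _ hx hy => exact hx.comp hy

/-- induction principle for `InL` -/
theorem InL_induction {P : M4 → Prop} (h1 : P 1) (hm : ∀ i m, InL m → P m → P (g5 i * m))
    {m : M4} (h : InL m) : P m := by
  induction inC_of_inL h with
  | one => exact h1
  | mul i hn ih => exact hm i _ hn.inL (ih hn.inL)

theorem InL_exists_idx {m : M4} (h : InL m) : ∃ i : Fin 360, lMat i.1 = m := by
  obtain ⟨i, hi, e⟩ := (inC_of_inL h).exists_idx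
  exact ⟨⟨i, hi⟩, e⟩

theorem inL_lMat (i : Fin 360) : InL (lMat i.1) := (inC_lMat i.1 i.2).inL

def enc (m : M4) : Nat :=
  (List.range 16).foldl
    (fun acc l => acc + (m (Fin.ofNat 4 (l / 4)) (Fin.ofNat 4 (l % 4))).val * 3 ^ l) 0

theorem lCodes_facts : lCodes.Nodup ∧ lCodes.length = 360 ∧
    ∀ i : Fin 360, enc (lMat i.1) = lCodes.getD i.1 0 := by decide +kernel

theorem lMat_injective : ∀ i j : Fin 360, lMat i.1 = lMat j.1 → i = j := by
  intro i j h
  have e := congrArg enc h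
  have hi : i.1 < lCodes.length := lCodes_facts.2.1.symm ▸ i.2
  have hj : j.1 < lCodes.length := lCodes_facts.2.1.symm ▸ j.2
  rw [lCodes_facts.2.2, lCodes_facts.2.2, List.getD_eq_getElem _ _ hi,
    List.getD_eq_getElem _ _ hj] at e
  exact Fin.ext (lCodes_facts.1.getElem_inj_iff.1 e)

theorem card_inL : Nat.card {m : M4 // InL m} = 360 := by
  have e : Function.Bijective (fun i : Fin 360 => (⟨lMat i.1, inL_lMat i⟩ : {m : M4 // InL m})) :=
    ⟨fun i j h => lMat_injective i j (congrArg Subtype.val h),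
      fun ⟨m, hm⟩ => (InL_exists_idx hm).imp fun i hi => Subtype.ext hi⟩
  rw [← Nat.card_eq_of_bijective _ e, Nat.card_fin]

/-! ## consequences -/

theorem g5_q : ∀ i : Fin 5, ∀ a b c d : ZMod 3,
    qA (app (g5 i) ![a, b, c, d]) = qA ![a, b, c, d] := by decide +kernel

theorem InL_q {m : M4} (h : InL m) : ∀ v : V4, qA (app m v) = qA v := by
  refine InL_induction (P := fun m => ∀ v : V4, qA (app m v) = qA v) ?_ ?_ h
  · intro v; rw [app_one]
  · intro i n _ ih v
    obtain ⟨a, b, c, d, e⟩ := vec_cases (app n v)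
    rw [app_mul, e, g5_q, ← e, ih]

theorem bA_eq (u v : V4) : bA u v = qA (u + v) - qA u - qA v := by
  simp only [bA, qA, Pi.add_apply]; ring

theorem InL_b {m : M4} (h : InL m) (u v : V4) : bA (app m u) (app m v) = bA u v := by
  rw [bA_eq, bA_eq, ← app_add, InL_q h, InL_q h, InL_q h]

theorem stab_list : ∀ i : Fin 360, (app (lMat i.1) xV = xV ∨ app (lMat i.1) xV = -xV) →
    ∃ c d : ZMod 3, ∃ k : Fin 4, lMat i.1 = siegel c d * tauMat ^ k.1 := by decide +kernel

/-- the stabiliser of the line of `x` -/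
theorem InL_stab {m : M4} (h : InL m) (hx : app m xV = xV ∨ app m xV = -xV) :
    ∃ c d : ZMod 3, ∃ k : Fin 4, m = siegel c d * tauMat ^ k.1 := by
  obtain ⟨i, rfl⟩ := InL_exists_idx h
  exact stab_list i hx

theorem span_ok : ∀ a b c d : ZMod 3, ![a, b, c, d] ≠ (0 : V4) →
    let w := lSpan.getD (27 * a.val + 9 * b.val + 3 * c.val + d.val) (0, 0)
    w.1 < 360 ∧ w.2 < 360 ∧
      app (lMat w.1) ![a, b, c, d] + app (lMat w.2) ![a, b, c, d] = yV := by decide +kernel

/-- `L` is irreducible: an additive invariant set with a nonzero vector contains `y` -/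
theorem span_y (B : V4 → Prop) (hadd : ∀ u v, B u → B v → B (u + v))
    (hinv : ∀ m, InL m → ∀ v, B v → B (app m v)) {v : V4} (hv : B v) (h0 : v ≠ 0) : B yV := by
  obtain ⟨a, b, c, d, rfl⟩ := vec_cases v
  obtain ⟨h1, h2, h3⟩ := span_ok a b c d h0
  rw [← h3]
  exact hadd _ _ (hinv _ (inL_lMat ⟨_, h1⟩) _ hv) (hinv _ (inL_lMat ⟨_, h2⟩) _ hv)

end H63.UFour
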