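import Cfsg.Agent.H87.U43.Interface
import Cfsg.Agent.H63.UFour.LFacts

/-!
# The complement of `A` in `N` fixing the coset of `j s j`
-/

set_option autoImplicit false

namespace H63.UFour

open H87.U43

variable {G : Type*} [Group G] (D : Datum G)

/-- the translation of a vector -/
def tr (v : V4) : G := D.alpha (Multiplicative.ofAdd v)

theorem tr_add (u v : V4) : tr D (u + v) = tr D u * tr D v := by
  simp [tr, ofAdd_add]

theorem tr_zero : tr D 0 = 1 := by simp [tr]

theorem tr_neg (v : V4) : tr D (-v) = (tr D v)⁻¹ := by simp [tr, ofAdd_neg]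

theorem tr_inj {u v : V4} (h : tr D u = tr D v) : u = v :=
  Multiplicative.ofAdd.injective (D.alpha_inj h)

theorem tr_mem (v : V4) : tr D v ∈ D.N := D.alpha_le ⟨_, rfl⟩

/-- conjugation by `h` is the matrix `m` on translations -/
def Acts (m : M4) (h : G) : Prop := ∀ v : V4, h * tr D v * h⁻¹ = tr D (app m v)

theorem Acts.comm {m : M4} {h : G} (hh : Acts D m h) (v : V4) :
    h * tr D v = tr D (app m v) * h := by rw [← hh v]; group

theorem Acts.comp {m n : M4} {g h : G} (hg : Acts D m g) (hh : Acts D n h) :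
    Acts D (m * n) (g * h) := fun v => by
  rw [app_mul, ← hg, ← hh]; group

theorem acts_tr (a : V4) : Acts D 1 (tr D a) := fun v => by
  rw [app_one, ← tr_add, add_comm, tr_add]; group

theorem j_inv : D.j⁻¹ = D.z * D.j := by
  have h : D.z * D.j * D.j = 1 := by rw [mul_assoc, D.j_sq, D.z_sq]
  exact (eq_inv_of_mul_eq_one_left h).symm

theorem z_j : D.z * D.j = D.j * D.z := by
  rw [← D.j_sq, mul_assoc]

theorem j_inv' : D.j⁻¹ = D.j * D.z := by rw [j_inv, z_j]

/-- the coset of `1` -/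
def qTop : G ⧸ D.N := (1 : G)

/-- the coset of `j` -/
def qNear : G ⧸ D.N := (D.j : G)

/-- the coset of `j s j` -/
def qFar : G ⧸ D.N := (D.j * D.s * D.j : G)

theorem fix_iff (g h : G) : g • (h : G ⧸ D.N) = (h : G ⧸ D.N) ↔ h⁻¹ * g * h ∈ D.N := by
  rw [MulAction.Quotient.smul_coe, smul_eq_mul, eq_comm, QuotientGroup.eq, mul_assoc]

theorem fix_top {g : G} (hg : g ∈ D.N) : g • qTop D = qTop D := by
  rw [qTop, fix_iff]; simpa using hg

theorem near_trans {v : V4} (h : D.j⁻¹ * tr D v * D.j ∈ D.N) : tr D v • qNear D = qNear D := by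
  rw [qNear, fix_iff]; exact h

theorem s_inv : D.s⁻¹ = D.s := inv_eq_of_mul_eq_one_right D.s_sq

theorem tr_s (v : V4) : tr D v * D.s = D.s * tr D (app sMat v) := by
  have := D.s_act v
  change D.s * tr D v * D.s⁻¹ = tr D (app sMat v) at this
  rw [← this, s_inv, ← mul_assoc, ← mul_assoc, D.s_sq, one_mul]

theorem j_tr_x (c : ZMod 3) : D.j * tr D (c • xV) = tr D (c • xV) * D.j := by
  have h : Commute D.j (tr D xV) := D.j_x
  rcases (by decide +kernel : ∀ c : ZMod 3, c = 0 ∨ c = 1 ∨ c = -1) c with rfl | rfl | rfl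
  · simp [tr_zero]
  · rw [one_smul]; exact h
  · rw [neg_one_smul, tr_neg]; exact h.inv_right.eq

theorem siegel_conj (c d : ZMod 3) : D.j⁻¹ * tr D (iV c d) * D.j ∈ D.N := by
  rw [show D.j⁻¹ * tr D (iV c d) * D.j =
      D.z * (D.j * tr D (iV c d) * D.j⁻¹) * D.z⁻¹ from
    calc D.j⁻¹ * tr D (iV c d) * D.j
        = (D.z * D.j) * tr D (iV c d) * (D.z * D.j)⁻¹ := by rw [← j_inv, inv_inv]
      _ = D.z * (D.j * tr D (iV c d) * D.j⁻¹) * D.z⁻¹ := by group]
  exact mul_mem (mul_mem D.z_mem (D.siegel_mem c d)) (inv_mem D.z_mem)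

/-- the element `j α(i) j⁻¹` -/
def sieg (c d : ZMod 3) : G := D.j * tr D (iV c d) * D.j⁻¹

theorem sieg_fix_near (c d : ZMod 3) : sieg D c d • qNear D = qNear D := by
  rw [qNear, fix_iff, sieg]
  convert tr_mem D (iV c d) using 1; group

theorem sieg_fix_far (c d : ZMod 3) : sieg D c d • qFar D = qFar D := by
  have hi : app sMat (iV c d) = iV c (-d) := by revert c d; decide +kernel
  rw [qFar, fix_iff, sieg]
  convert siegel_conj D c (-d) using 1
  calc (D.j * D.s * D.j)⁻¹ * (D.j * tr D (iV c d) * D.j⁻¹) * (D.j * D.s * D.j)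
      = D.j⁻¹ * D.s⁻¹ * (tr D (iV c d) * D.s) * D.j := by group
    _ = D.j⁻¹ * tr D (iV c (-d)) * D.j := by rw [tr_s, hi]; group

theorem z_fix_near : D.z • qNear D = qNear D := by
  rw [qNear, fix_iff]
  convert D.z_mem using 1
  rw [mul_assoc, z_j, inv_mul_cancel_left]

theorem z_fix_far : D.z • qFar D = qFar D := by
  rw [qFar, fix_iff]
  convert D.z_mem using 1
  have h : Commute D.z (D.j * D.s * D.j) :=
    ((show Commute D.z D.j from z_j D).mul_right D.zs).mul_right (z_j D)
  rw [mul_assoc, h.eq, inv_mul_cancel_left]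

theorem tau_fix_near : D.tau • qNear D = qNear D := by
  rw [qNear, fix_iff]
  convert mul_mem D.z_mem D.tau_mem using 1
  have h : D.tau * D.j = D.j⁻¹ * D.tau := by rw [← D.tau_j]; group
  rw [mul_assoc, h, ← mul_assoc, show D.j⁻¹ * D.j⁻¹ = D.z by
    rw [← mul_inv_rev, D.j_sq]; exact inv_eq_of_mul_eq_one_right D.z_sq]

theorem s_fix_far : D.s • qFar D = qFar D := by
  rw [qFar, MulAction.Quotient.smul_coe, smul_eq_mul, eq_comm, QuotientGroup.eq]
  convert D.s_mem using 1
  calc (D.j * D.s * D.j)⁻¹ * (D.s * (D.j * D.s * D.j))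
      = (D.j * D.s * D.j)⁻¹ * ((D.s * D.j * D.s) * D.j) := by group
    _ = (D.j * D.s * D.j)⁻¹ * (D.j * (D.s * D.j * D.s)) := by rw [← D.j_sjs]
    _ = D.s := by group

theorem tau_fix_far : D.tau • qFar D = qFar D := by
  rw [qFar, fix_iff]
  convert mul_mem D.tau_mem D.z_mem using 1
  have hj : D.tau * D.j = D.j * D.z * D.tau := by
    rw [← j_inv', ← D.tau_j]; group
  have h : D.tau * (D.j * D.s * D.j) = D.j * D.s * D.j * (D.tau * D.z) := by
    calc D.tau * (D.j * D.s * D.j) = (D.tau * D.j) * D.s * D.j := by group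
      _ = D.j * D.z * (D.tau * D.s) * D.j := by rw [hj]; group
      _ = D.j * (D.z * D.s) * D.tau * (D.z * D.j) := by rw [D.tau_s]; group
      _ = D.j * D.s * D.z * ((D.tau * D.j) * D.z) := by rw [D.zs, z_j]; group
      _ = D.j * D.s * (D.z * D.j) * D.z * (D.tau * D.z) := by rw [hj]; group
      _ = D.j * D.s * D.j * (D.z * D.z) * (D.tau * D.z) := by rw [z_j]; group
      _ = D.j * D.s * D.j * (D.tau * D.z) := by rw [D.z_sq, mul_one]
  rw [mul_assoc, h, inv_mul_cancel_left]

theorem sieg_acts (c d : ZMod 3) : Acts D (siegel c d) (sieg D c d) := D.siegel_act c d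

/-- no nontrivial translation fixes the coset of `j s j` -/
theorem tr_fix_far {v : V4} (hv : tr D v • qFar D = qFar D)
    (hstep : ∀ m, InL m → ∀ v, tr D v • qFar D = qFar D → tr D (app m v) • qFar D = qFar D) :
    v = 0 := by
  by_contra h0
  have hy : tr D yV • qFar D = qFar D :=
    span_y (fun v => tr D v • qFar D = qFar D)
      (fun u w hu hw => by rw [tr_add, mul_smul, hw, hu]) hstep hv h0
  have hx := hstep sMat inL_s yV hy
  rw [show app sMat yV = xV by decide +kernel, qFar, fix_iff] at hx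
  apply D.jy_not_mem
  convert hx using 1
  have e1 : tr D xV * D.j = D.j * tr D xV := D.j_x.symm
  have e2 : tr D xV * D.s = D.s * tr D yV := by
    rw [tr_s, show app sMat xV = yV by decide +kernel]
  calc D.j⁻¹ * tr D yV * D.j
      = (D.j * D.s * D.j)⁻¹ * (D.j * (D.s * tr D yV)) * D.j := by group
    _ = (D.j * D.s * D.j)⁻¹ * ((D.j * tr D xV) * D.s) * D.j := by rw [← e2]; group
    _ = (D.j * D.s * D.j)⁻¹ * tr D xV * (D.j * D.s * D.j) := by rw [← e1]; group

/-- `m` lifts to an element of `N` fixing the coset of `j s j` -/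
def HasLift (m : M4) : Prop := ∃ h ∈ D.N, Acts D m h ∧ h • qFar D = qFar D

theorem hasLift_g5 (i : Fin 5) : HasLift D (g5 i) := by
  fin_cases i
  · exact ⟨D.z, D.z_mem, D.z_act, z_fix_far D⟩
  · exact ⟨D.s, D.s_mem, D.s_act, s_fix_far D⟩
  · exact ⟨D.tau, D.tau_mem, D.tau_act, tau_fix_far D⟩
  · exact ⟨_, D.siegel_mem 1 0, sieg_acts D 1 0, sieg_fix_far D 1 0⟩
  · exact ⟨_, D.siegel_mem 0 1, sieg_acts D 0 1, sieg_fix_far D 0 1⟩

theorem hasLift {m : M4} (hm : InL m) : HasLift D m := by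
  refine InL_induction (P := HasLift D) ⟨1, one_mem _, fun v => by simp [app_one], one_smul _ _⟩
    ?_ hm
  rintro i n - ⟨h, hN, ha, hf⟩
  obtain ⟨g, gN, ga, gf⟩ := hasLift_g5 D i
  exact ⟨g * h, mul_mem gN hN, ga.comp D ha, by rw [mul_smul, hf, gf]⟩

theorem far_free {v : V4} (hv : tr D v • qFar D = qFar D) : v = 0 := by
  refine tr_fix_far D hv fun m hm w hw => ?_
  obtain ⟨h, -, ha, hf⟩ := hasLift D hm
  rw [← ha w, mul_smul, mul_smul, inv_smul_eq_iff.mpr hf.symm, hw, hf]

open scoped Classical in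
/-- the lift of a matrix -/
noncomputable def lift (m : M4) : G :=
  if h : InL m then (hasLift D h).choose else 1

theorem lift_spec {m : M4} (hm : InL m) :
    lift D m ∈ D.N ∧ Acts D m (lift D m) ∧ lift D m • qFar D = qFar D := by
  rw [lift, dif_pos hm]; exact (hasLift D hm).choose_spec

theorem lift_unique {m : M4} (hm : InL m) {h : G} (hN : h ∈ D.N) (ha : Acts D m h)
    (hf : h • qFar D = qFar D) : h = lift D m := by
  obtain ⟨lN, la, lf⟩ := lift_spec D hm
  have hk : h⁻¹ * lift D m ∈ D.alpha.range := by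
    refine D.ker _ (mul_mem (inv_mem hN) lN) fun v => ?_
    show h⁻¹ * lift D m * tr D v = tr D v * (h⁻¹ * lift D m)
    rw [mul_assoc, la.comm, ← mul_assoc, ← mul_assoc]
    congr 1
    rw [inv_mul_eq_iff_eq_mul, ← mul_assoc, ha.comm, mul_inv_cancel_right]
  obtain ⟨a, ha'⟩ := hk
  have h0 : (Multiplicative.toAdd a) = 0 := by
    apply far_free D
    show D.alpha a • qFar D = qFar D
    rw [ha', mul_smul, lf, inv_smul_eq_iff, hf]
  have : h⁻¹ * lift D m = 1 := by
    rw [← ha', show a = 1 from toAdd_eq_zero.mp h0, map_one]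
  exact inv_mul_eq_one.mp this

theorem lift_mul {m n : M4} (hm : InL m) (hn : InL n) :
    lift D (m * n) = lift D m * lift D n := by
  obtain ⟨mN, ma, mf⟩ := lift_spec D hm
  obtain ⟨nN, na, nf⟩ := lift_spec D hn
  exact (lift_unique D (InL_mul hm hn) (mul_mem mN nN) (ma.comp D na)
    (by rw [mul_smul, nf, mf])).symm

theorem lift_one : lift D 1 = 1 :=
  (lift_unique D inL_one (one_mem _) (fun v => by simp [app_one]) (one_smul _ _)).symm

theorem lift_s : lift D sMat = D.s :=
  (lift_unique D inL_s D.s_mem D.s_act (s_fix_far D)).symm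

theorem lift_tau : lift D tauMat = D.tau :=
  (lift_unique D inL_tau D.tau_mem D.tau_act (tau_fix_far D)).symm

theorem lift_siegel (c d : ZMod 3) : lift D (siegel c d) = sieg D c d :=
  (lift_unique D (inL_siegel c d) (D.siegel_mem c d) (sieg_acts D c d) (sieg_fix_far D c d)).symm

/-! ## normal form in `N` -/

/-- the element of `N` with translation `a` and matrix `m` -/
noncomputable def el (a : V4) (m : M4) : G := tr D a * lift D m

theorem el_mem (a : V4) {m : M4} (hm : InL m) : el D a m ∈ D.N :=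
  mul_mem (tr_mem D a) (lift_spec D hm).1

theorem el_mul (a b : V4) {m n : M4} (hm : InL m) (hn : InL n) :
    el D a m * el D b n = el D (a + app m b) (m * n) := by
  rw [el, el, el, lift_mul D hm hn, tr_add,
    show tr D a * lift D m * (tr D b * lift D n) = tr D a * (lift D m * tr D b) * lift D n by group,
    (lift_spec D hm).2.1.comm]
  group

theorem el_surj {g : G} (hg : g ∈ D.N) : ∃ a m, InL m ∧ g = el D a m := by
  obtain ⟨m, hm, ha⟩ := D.act g hg
  obtain ⟨lN, la, -⟩ := lift_spec D hm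
  have hk : g * (lift D m)⁻¹ ∈ D.alpha.range := by
    refine D.ker _ (mul_mem hg (inv_mem lN)) fun v => ?_
    show g * (lift D m)⁻¹ * tr D v = tr D v * (g * (lift D m)⁻¹)
    obtain ⟨n, -, -, hn⟩ := InL_inv hm
    obtain ⟨w, rfl⟩ : ∃ w, v = app m w := ⟨app n v, by rw [← app_mul, hn, app_one]⟩
    rw [mul_assoc, show (lift D m)⁻¹ * tr D (app m w) = tr D w * (lift D m)⁻¹ by
      rw [← la w]; group, ← mul_assoc,
      show g * tr D w = tr D (app m w) * g from Acts.comm D ha w, mul_assoc]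
  obtain ⟨a, ha'⟩ := hk
  refine ⟨Multiplicative.toAdd a, m, hm, ?_⟩
  rw [el, tr, ofAdd_toAdd, ha', inv_mul_cancel_right]

theorem el_inj {a b : V4} {m n : M4} (hm : InL m) (hn : InL n) (h : el D a m = el D b n) :
    a = b ∧ m = n := by
  have hab : tr D a • qFar D = tr D b • qFar D := by
    have := congrArg (fun g => g • qFar D) h
    simpa [el, mul_smul, (lift_spec D hm).2.2, (lift_spec D hn).2.2] using this
  have hab' : a = b := by
    have h1 : tr D (-b + a) • qFar D = qFar D := by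
      rw [tr_add, mul_smul, hab, tr_neg, inv_smul_smul]
    exact (neg_add_eq_zero.mp (far_free D h1)).symm
  subst hab'
  refine ⟨rfl, app_injective fun v => ?_⟩
  have hl : lift D m = lift D n := mul_left_cancel h
  exact tr_inj D (by rw [← (lift_spec D hm).2.1 v, hl, (lift_spec D hn).2.1 v])

end H63.UFour
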