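import Cfsg.Agent.H63.UFour.LFacts

/-!
# Laws of the action on the 112 points
-/

set_option autoImplicit false
set_option synthInstance.maxSize 2000
set_option synthInstance.maxHeartbeats 100000

namespace H63.UFour

open H87.U43

/-- the base near point -/
def pNear : Pt := mkNear xV 0

theorem bA_add_left (u v w : V4) : bA (u + v) w = bA u w + bA v w := by
  simp only [bA, Pi.add_apply]; ring

theorem bA_add_right (u v w : V4) : bA u (v + w) = bA u v + bA u w := by
  simp only [bA, Pi.add_apply]; ring

theorem bA_neg_left (u v : V4) : bA (-u) v = -bA u v := by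
  simp only [bA, Pi.neg_apply]; ring

theorem lead_flip : ∀ a b c d : ZMod 3, qA ![a, b, c, d] = 0 → ![a, b, c, d] ≠ (0 : V4) →
    isLead (-![a, b, c, d]) = !isLead ![a, b, c, d] := by decide +kernel

/-- code of a point (for kernel comparisons) -/
def ptCode : Pt → List Nat
  | .top => [0]
  | .near v c => [1, (v 0).val, (v 1).val, (v 2).val, (v 3).val, c.val]
  | .far v => [2, (v 0).val, (v 1).val, (v 2).val, (v 3).val]

theorem ptCode_inj {p q : Pt} (h : ptCode p = ptCode q) : p = q := by
  cases p <;> cases q <;> simp [ptCode] at h ⊢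
  all_goals
    have hv := fun (x y : ZMod 3) (e : x.val = y.val) => ZMod.val_injective 3 e
    first
      | exact ⟨funext fun r => by fin_cases r <;> apply hv <;> simp [h], hv _ _ h.2.2.2.2⟩
      | exact funext fun r => by fin_cases r <;> apply hv <;> simp [h]

theorem ptCode_iff {p q : Pt} : ptCode p = ptCode q ↔ p = q := ⟨ptCode_inj, congrArg _⟩

/-- singular nonzero vectors -/
def Sing (v : V4) : Prop := qA v = 0 ∧ v ≠ 0

theorem Sing.flip {v : V4} (h : Sing v) : isLead (-v) = !isLead v := by
  obtain ⟨a, b, c, d, rfl⟩ := vec_cases v; exact lead_flip a b c d h.1 h.2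

theorem Sing.app {v : V4} (h : Sing v) {m : M4} (hm : InL m) : Sing (app m v) := by
  refine ⟨by rw [InL_q hm]; exact h.1, fun e => h.2 ?_⟩
  obtain ⟨n, -, hn, -⟩ := InL_inv hm
  rw [← app_one v, ← hn, app_mul, e, app_zero]

theorem Sing.neg {v : V4} (h : Sing v) : Sing (-v) :=
  ⟨by rw [show qA (-v) = qA v by simp only [qA, Pi.neg_apply]; ring]; exact h.1,
    neg_ne_zero.mpr h.2⟩

theorem sing_x : Sing xV := by unfold Sing; decide +kernel

theorem sing_of_near {v : V4} {c : ZMod 3} (h : Valid (.near v c)) : Sing v := by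
  refine ⟨h.1, fun e => ?_⟩
  have h2 := h.2; rw [e] at h2; change isLead (0 : V4) = true at h2; revert h2; decide +kernel

theorem mkNear_neg {v : V4} (h : Sing v) (c : ZMod 3) : mkNear (-v) (-c) = mkNear v c := by
  have := h.flip
  unfold mkNear
  cases hl : isLead v <;> rw [hl] at this <;> simp_all

theorem mkNear_valid {v : V4} (h : Sing v) (c : ZMod 3) : Valid (mkNear v c) := by
  unfold mkNear
  cases hl : isLead v
  · rw [if_neg (by simp)]
    exact ⟨h.neg.1, by rw [h.flip, hl]; rfl⟩
  · rw [if_pos rfl]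
    exact ⟨h.1, hl⟩

theorem affAct_mkNear {v : V4} (h : Sing v) (c : ZMod 3) (a : V4) {m : M4} (hm : InL m) :
    affAct a m (mkNear v c) = mkNear (app m v) (c + bA (app m v) a) := by
  cases hl : isLead v
  · simp only [mkNear, hl, Bool.false_eq_true, if_false, affAct, app_neg, bA_neg_left]
    rw [← neg_add]
    exact mkNear_neg (h.app hm) _
  · simp only [mkNear, hl, if_true, affAct]

theorem affAct_valid {p : Pt} (hp : Valid p) (a : V4) {m : M4} (hm : InL m) :
    Valid (affAct a m p) := by
  cases p with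
  | top => trivial
  | near v c => exact mkNear_valid ((sing_of_near hp).app hm) _
  | far w => trivial

theorem affAct_comp {p : Pt} (hp : Valid p) (a b : V4) {m n : M4} (hm : InL m) (hn : InL n) :
    affAct a m (affAct b n p) = affAct (a + app m b) (m * n) p := by
  cases p with
  | top => rfl
  | near v c =>
    show affAct a m (mkNear (app n v) _) = mkNear (app (m * n) v) _
    rw [affAct_mkNear ((sing_of_near hp).app hn) _ a hm, app_mul, bA_add_right, InL_b hm]
    congr 1; ring
  | far w =>
    show Pt.far _ = Pt.far _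
    rw [app_mul, app_add, add_assoc]

theorem affAct_one {p : Pt} (hp : Valid p) : affAct 0 1 p = p := by
  cases p with
  | top => rfl
  | near v c =>
    show mkNear (app 1 v) _ = _
    rw [app_one, show bA v 0 = 0 by simp [bA], add_zero, mkNear, if_pos hp.2]
  | far w => show Pt.far _ = _; rw [app_one, zero_add]

theorem pNear_eq : pNear = .near (-xV) 0 := by decide +kernel

theorem valid_pNear : Valid pNear := mkNear_valid sing_x 0

theorem pNear_fix_fin : ∀ a b c d e : ZMod 3, qA ![a, b, c, d] = 0 → ![a, b, c, d] ≠ (0 : V4) →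
    (ptCode (mkNear ![a, b, c, d] e) = ptCode pNear ↔
      ((![a, b, c, d] = xV ∨ ![a, b, c, d] = -xV) ∧ e = 0)) := by decide +kernel

/-- stabiliser of the base near point -/
theorem affAct_pNear_iff (a : V4) {m : M4} (hm : InL m) :
    affAct a m pNear = pNear ↔ (app m xV = xV ∨ app m xV = -xV) ∧ bA xV a = 0 := by
  conv_lhs => lhs; rw [pNear, affAct_mkNear sing_x 0 a hm]
  have hs := sing_x.app hm
  obtain ⟨p, q, r, t, e⟩ := vec_cases (app m xV)
  rw [e] at hs ⊢
  rw [← ptCode_iff, pNear_fix_fin p q r t _ hs.1 hs.2, zero_add]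
  constructor
  · rintro ⟨h | h, he⟩ <;> rw [h] at he ⊢
    · exact ⟨Or.inl rfl, he⟩
    · exact ⟨Or.inr rfl, by rwa [bA_neg_left, neg_eq_zero] at he⟩
  · rintro ⟨h | h, he⟩ <;> rw [h]
    · exact ⟨Or.inl rfl, he⟩
    · exact ⟨Or.inr rfl, by rw [bA_neg_left, he, neg_zero]⟩

theorem decomp : ∀ a b c d : ZMod 3,
    ![a, b, c, d] = bA ![a, b, c, d] yV • xV + iV c d + bA ![a, b, c, d] xV • yV := by
  decide +kernel

theorem vec_decomp (v : V4) : v = bA v yV • xV + iV (v 2) (v 3) + bA v xV • yV := by
  obtain ⟨a, b, c, d, rfl⟩ := vec_cases v; exact decomp a b c d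

theorem perp_x : ∀ a b c d : ZMod 3, bA ![a, b, c, d] xV = 0 → bA ![a, b, c, d] (iV 1 0) = 0 →
    bA ![a, b, c, d] (iV 0 1) = 0 →
      ![a, b, c, d] = (0 : V4) ∨ ![a, b, c, d] = xV ∨ ![a, b, c, d] = -xV := by decide +kernel

theorem bA_comm (u v : V4) : bA u v = bA v u := by simp only [bA]; ring

/-! ## the rule of `j` in the parameters used for the proof -/

theorem near_cases : ∀ a b c d e : ZMod 3, IsNear (![a, b, c, d], e) →
    (∃ k : ZMod 3, ptCode (.near ![a, b, c, d] e) = ptCode (affAct (k • yV) 1 pNear)) ∨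
    ∃ k f g : ZMod 3, ptCode (.near ![a, b, c, d] e) =
      ptCode (affAct (k • xV) (siegel f g * sMat) pNear) := by
  decide +kernel

theorem jAct_near_one : ∀ k : ZMod 3, ptCode (jAct (affAct (k • yV) 1 pNear)) =
    ptCode (if k = 0 then Pt.top else affAct ((-k) • yV) 1 pNear) := by decide +kernel

theorem jAct_near_two : ∀ k f g : ZMod 3,
    ptCode (jAct (affAct (k • xV) (siegel f g * sMat) pNear)) =
      ptCode (.far (k • xV + -iV f g)) := by decide +kernel

theorem jAct_far : ∀ a b c d : ZMod 3, ptCode (jAct (.far ![a, b, c, d])) =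
    ptCode (if bA ![a, b, c, d] xV = 0 then
      affAct (bA ![a, b, c, d] yV • xV) (siegel c d * sMat) pNear
    else .far (bA ![a, b, c, d] yV • xV + app (siegel c d) (-(bA ![a, b, c, d] xV) • yV))) := by
  decide +kernel

end H63.UFour
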