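import Cfsg.Agent.H63.UFour.Lift
import Cfsg.Agent.H63.UFour.Model

/-!
# The 112 cosets of `N`
-/

set_option autoImplicit false

namespace H63.UFour

open H87.U43

variable {G : Type*} [Group G] (D : Datum G)

theorem tr_fix_near {v : V4} : tr D v • qNear D = qNear D ↔ bA xV v = 0 := by
  have hpos : ∀ w : V4, bA w xV = 0 → tr D w • qNear D = qNear D := by
    intro w h0
    conv_lhs => rw [vec_decomp w, h0, zero_smul, add_zero, tr_add, mul_smul,
      near_trans D (siegel_conj D (w 2) (w 3))]
    apply near_trans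
    rw [mul_assoc, ← j_tr_x, inv_mul_cancel_left]
    exact tr_mem D _
  refine ⟨fun h => ?_, fun h => hpos v (by rwa [bA_comm])⟩
  by_contra hne
  rw [bA_comm] at hne
  have hz : ∀ a b c d : ZMod 3,
      bA (![a, b, c, d] + -(bA ![a, b, c, d] xV • yV)) xV = 0 := by decide +kernel
  have h' : tr D (bA v xV • yV) • qNear D = qNear D := by
    obtain ⟨a, b, c, d, e⟩ := vec_cases v
    have h1 := hpos _ (hz a b c d)
    rw [← e, tr_add, mul_smul, tr_neg] at h1
    -- translations commute
    have hcomm : tr D v * (tr D (bA v xV • yV))⁻¹ = (tr D (bA v xV • yV))⁻¹ * tr D v := by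
      rw [← tr_neg, ← tr_add, ← tr_add, add_comm]
    rw [← mul_smul, hcomm, mul_smul, h, inv_smul_eq_iff] at h1
    exact h1.symm
  have hy : tr D yV • qNear D = qNear D := by
    rcases (by decide +kernel : ∀ c : ZMod 3, c = 0 ∨ c = 1 ∨ c = -1) (bA v xV) with e | e | e
    · exact absurd e hne
    · rwa [e, one_smul] at h'
    · rw [e, neg_one_smul, tr_neg, inv_smul_eq_iff] at h'
      exact h'.symm
  rw [qNear, fix_iff] at hy
  exact D.jy_not_mem hy

theorem lift_fix_near_of_line {m : M4} (hm : InL m) (hx : app m xV = xV ∨ app m xV = -xV) :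
    lift D m • qNear D = qNear D := by
  obtain ⟨c, d, k, rfl⟩ := InL_stab hm hx
  have hk : ∀ n : ℕ, lift D (tauMat ^ n) = D.tau ^ n := by
    intro n
    induction n with
    | zero => rw [pow_zero, pow_zero, lift_one]
    | succ n ih => rw [pow_succ, pow_succ, lift_mul D (InL_pow inL_tau n) inL_tau, ih, lift_tau]
  rw [lift_mul D (inL_siegel c d) (InL_pow inL_tau _), hk, lift_siegel, mul_smul]
  have : ∀ n : ℕ, D.tau ^ n • qNear D = qNear D := by
    intro n
    induction n with
    | zero => rw [pow_zero, one_smul]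
    | succ n ih => rw [pow_succ, mul_smul, tau_fix_near, ih]
  rw [this, sieg_fix_near]

theorem el_fix_near {a : V4} {m : M4} (hm : InL m) :
    el D a m • qNear D = qNear D ↔ (app m xV = xV ∨ app m xV = -xV) ∧ bA xV a = 0 := by
  constructor
  · intro h
    have hperp : ∀ w, bA xV w = 0 → bA xV (app m w) = 0 := by
      intro w hw
      rw [← tr_fix_near D] at hw ⊢
      have e : tr D (app m w) = el D a m * tr D w * (el D a m)⁻¹ := by
        rw [el, show tr D a * lift D m * tr D w * (tr D a * lift D m)⁻¹ =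
          tr D a * (lift D m * tr D w * (lift D m)⁻¹) * (tr D a)⁻¹ by group,
          (lift_spec D hm).2.1 w, ← tr_add, add_comm, tr_add, mul_inv_cancel_right]
      rw [e, mul_smul, mul_smul, inv_smul_eq_iff.mpr h.symm, hw, h]
    obtain ⟨n, hn, hnm, hmn⟩ := InL_inv hm
    have key : ∀ w, bA xV w = 0 → bA (app n xV) w = 0 := by
      intro w hw
      rw [← InL_b hm, ← app_mul, hmn, app_one]
      exact hperp w hw
    obtain ⟨p, q, r, t, e⟩ := vec_cases (app n xV)
    have k1 := key xV (by decide +kernel)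
    have k2 := key (iV 1 0) (by decide +kernel)
    have k3 := key (iV 0 1) (by decide +kernel)
    rw [e] at k1 k2 k3
    have hx : app m xV = xV ∨ app m xV = -xV := by
      have hback : app m (app n xV) = xV := by rw [← app_mul, hmn, app_one]
      rcases perp_x p q r t k1 k2 k3 with h0 | h0 | h0 <;> rw [e, h0] at hback
      · rw [app_zero] at hback; exact absurd hback.symm sing_x.2
      · exact Or.inl hback
      · rw [app_neg] at hback; exact Or.inr (neg_eq_iff_eq_neg.mp hback)
    refine ⟨hx, (tr_fix_near D).mp ?_⟩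
    rwa [el, mul_smul, lift_fix_near_of_line D hm hx] at h
  · rintro ⟨hx, ha⟩
    rw [el, mul_smul, lift_fix_near_of_line D hm hx, (tr_fix_near D).mpr ha]

theorem el_far (a : V4) {m : M4} (hm : InL m) :
    el D a m • qFar D = tr D a • qFar D := by
  rw [el, mul_smul, (lift_spec D hm).2.2]

/-- the base points with their cosets -/
def Base (p : Pt) (q : G ⧸ D.N) : Prop :=
  (p = .top ∧ q = qTop D) ∨ (p = pNear ∧ q = qNear D) ∨ (p = .far 0 ∧ q = qFar D)

theorem Base.valid {p : Pt} {q : G ⧸ D.N} (h : Base D p q) : Valid p := by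
  rcases h with ⟨rfl, -⟩ | ⟨rfl, -⟩ | ⟨rfl, -⟩
  · trivial
  · exact valid_pNear
  · trivial

theorem Base.stab {p : Pt} {q : G ⧸ D.N} (h : Base D p q) {a : V4} {m : M4} (hm : InL m) :
    affAct a m p = p ↔ el D a m • q = q := by
  rcases h with ⟨rfl, rfl⟩ | ⟨rfl, rfl⟩ | ⟨rfl, rfl⟩
  · exact ⟨fun _ => fix_top D (el_mem D a hm), fun _ => rfl⟩
  · rw [affAct_pNear_iff a hm, el_fix_near D hm]
  · rw [el_far D a hm]
    show Pt.far (a + app m 0) = Pt.far 0 ↔ _
    rw [app_zero, add_zero, Pt.far.injEq]
    exact ⟨fun e => by rw [e, tr_zero, one_smul], far_free D⟩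

theorem el_qNear_ne_qTop (a : V4) {m : M4} (hm : InL m) : el D a m • qNear D ≠ qTop D := by
  intro h
  rw [← eq_inv_smul_iff, fix_top D (inv_mem (el_mem D a hm))] at h
  rw [qNear, qTop, QuotientGroup.eq] at h
  exact D.j_not_mem (by simpa using h)

theorem qFar_ne_qTop (a : V4) {m : M4} (hm : InL m) : el D a m • qFar D ≠ qTop D := by
  intro h
  rw [← eq_inv_smul_iff, fix_top D (inv_mem (el_mem D a hm))] at h
  exact sing_x.2 (far_free D (h ▸ fix_top D (tr_mem D xV)))

theorem el_qNear_ne_qFar (a : V4) {m : M4} (hm : InL m) : el D a m • qNear D ≠ qFar D := by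
  intro h
  have e : tr D (app m xV) * el D a m = el D a m * tr D xV := by
    rw [el, mul_assoc (tr D a), (lift_spec D hm).2.1.comm, ← mul_assoc, ← mul_assoc, ← tr_add,
      ← tr_add, add_comm]
  have : tr D (app m xV) • qFar D = qFar D := by
    rw [← h, ← mul_smul, e, mul_smul, (tr_fix_near D).mpr (by decide +kernel)]
  exact (sing_x.app hm).2 (far_free D this)

/-- a point and its coset -/
def Rel (p : Pt) (q : G ⧸ D.N) : Prop :=
  ∃ p0 q0, Base D p0 q0 ∧ ∃ a m, InL m ∧ p = affAct a m p0 ∧ q = el D a m • q0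

theorem Rel.valid {p : Pt} {q : G ⧸ D.N} (h : Rel D p q) : Valid p := by
  obtain ⟨p0, q0, hb, a, m, hm, rfl, -⟩ := h
  exact affAct_valid (hb.valid D) a hm

theorem Base.rel {p : Pt} {q : G ⧸ D.N} (h : Base D p q) : Rel D p q :=
  ⟨p, q, h, 0, 1, inL_one, (affAct_one (h.valid D)).symm, by
    rw [el, tr_zero, lift_one, one_mul, one_smul]⟩

theorem Rel.smul {p : Pt} {q : G ⧸ D.N} (h : Rel D p q) (a : V4) {m : M4} (hm : InL m) :
    Rel D (affAct a m p) (el D a m • q) := by
  obtain ⟨p0, q0, hb, b, n, hn, rfl, rfl⟩ := h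
  exact ⟨p0, q0, hb, a + app m b, m * n, InL_mul hm hn, affAct_comp (hb.valid D) a b hm hn,
    by rw [← mul_smul, el_mul D a b hm hn]⟩

/-- inverse in normal form -/
theorem el_inv (a : V4) {m : M4} (hm : InL m) : ∃ b n, InL n ∧ el D b n * el D a m = 1 ∧
    ∀ p, Valid p → affAct b n (affAct a m p) = p := by
  obtain ⟨n, hn, hnm, -⟩ := InL_inv hm
  refine ⟨-app n a, n, hn, ?_, fun p hp => ?_⟩
  · rw [el_mul D _ _ hn hm, neg_add_cancel, hnm, el, tr_zero, lift_one, one_mul]
  · rw [affAct_comp hp _ _ hn hm, neg_add_cancel, hnm, affAct_one hp]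

theorem Rel.iff {p p' : Pt} {q q' : G ⧸ D.N} (h : Rel D p q) (h' : Rel D p' q') :
    p = p' ↔ q = q' := by
  obtain ⟨p0, q0, hb, a, m, hm, rfl, rfl⟩ := h
  obtain ⟨b, n, hn, hel, haff⟩ := el_inv D a hm
  obtain ⟨p1, q1, hb', a', m', hm', rfl, rfl⟩ := h'
  have hv' := affAct_valid (hb'.valid D) a' hm'
  have e1 : affAct a m p0 = affAct a' m' p1 ↔
      affAct (b + app n a') (n * m') p1 = p0 := by
    rw [← affAct_comp (hb'.valid D) b a' hn hm']
    constructor
    · intro e; rw [← e, haff _ (hb.valid D)]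
    · intro e
      rw [← e]
      obtain ⟨m₂, -, h21, h12⟩ := InL_inv hm
      have hnm : n = m₂ := by
        have := (el_inj D (InL_mul hn hm) inL_one (a := b + app n a) (b := 0)
          (by rw [← el_mul D b a hn hm, hel, el, tr_zero, lift_one, one_mul])).2
        calc n = n * (m * m₂) := by rw [h12, mul_one]
          _ = m₂ := by rw [← mul_assoc, this, one_mul]
      have hab : a + app m b = 0 := by
        have := (el_inj D (InL_mul hn hm) inL_one (a := b + app n a) (b := 0)
          (by rw [← el_mul D b a hn hm, hel, el, tr_zero, lift_one, one_mul])).1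
        rw [eq_neg_of_add_eq_zero_left this, app_neg, ← app_mul, hnm, h12, app_one,
          add_neg_cancel]
      rw [affAct_comp hv' a b hm hn, hab, show m * n = 1 by rw [hnm, h12], affAct_one hv']
  have e2 : el D a m • q0 = el D a' m' • q1 ↔ el D (b + app n a') (n * m') • q1 = q0 := by
    rw [← el_mul D b a' hn hm', mul_smul,
      show el D b n = (el D a m)⁻¹ from eq_inv_of_mul_eq_one_left hel, inv_smul_eq_iff, eq_comm]
  rw [e1, e2]
  have hm2 := InL_mul hn hm'
  generalize b + app n a' = c at *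
  generalize n * m' = l at *
  clear e1 e2
  rcases hb with ⟨rfl, rfl⟩ | ⟨rfl, rfl⟩ | ⟨rfl, rfl⟩ <;>
    rcases hb' with ⟨rfl, rfl⟩ | ⟨rfl, rfl⟩ | ⟨rfl, rfl⟩
  · exact Base.stab D (Or.inl ⟨rfl, rfl⟩) hm2
  · refine iff_of_false (fun e => ?_) (el_qNear_ne_qTop D c hm2)
    rw [pNear, affAct_mkNear sing_x 0 c hm2, mkNear] at e; split at e <;> cases e
  · exact iff_of_false (by simp [affAct]) (qFar_ne_qTop D c hm2)
  · refine iff_of_false (by rw [pNear_eq]; simp [affAct]) fun e => ?_
    rw [fix_top D (el_mem D c hm2)] at e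
    exact el_qNear_ne_qTop D 0 inL_one (by
      rw [← e, el, tr_zero, lift_one, one_mul, one_smul])
  · exact Base.stab D (Or.inr (Or.inl ⟨rfl, rfl⟩)) hm2
  · refine iff_of_false (by rw [pNear_eq]; simp [affAct]) fun e => ?_
    obtain ⟨u, w, hw, hinv, -⟩ := el_inv D c hm2
    exact el_qNear_ne_qFar D u hw (by rw [← e, ← mul_smul, hinv, one_smul])
  · refine iff_of_false (by simp [affAct]) fun e => ?_
    rw [fix_top D (el_mem D c hm2)] at e
    exact qFar_ne_qTop D 0 inL_one (by rw [← e, el, tr_zero, lift_one, one_mul, one_smul])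
  · refine iff_of_false (fun e => ?_) (el_qNear_ne_qFar D c hm2)
    rw [pNear, affAct_mkNear sing_x 0 c hm2, mkNear] at e; split at e <;> cases e
  · exact Base.stab D (Or.inr (Or.inr ⟨rfl, rfl⟩)) hm2

/-! ## the rule of `j` -/

theorem far_rel (a : V4) : Rel D (.far a) (tr D a • qFar D) :=
  ⟨.far 0, qFar D, Or.inr (Or.inr ⟨rfl, rfl⟩), a, 1, inL_one,
    by show _ = Pt.far (a + app 1 0); rw [app_zero, add_zero],
    by rw [el, lift_one, mul_one]⟩

theorem near_rel (a : V4) {m : M4} (hm : InL m) :
    Rel D (affAct a m pNear) (el D a m • qNear D) :=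
  ⟨pNear, qNear D, Or.inr (Or.inl ⟨rfl, rfl⟩), a, m, hm, rfl, rfl⟩

theorem top_rel : Rel D .top (qTop D) := Base.rel D (Or.inl ⟨rfl, rfl⟩)

theorem j_sieg (f g : ZMod 3) : D.j * sieg D f g = tr D (-iV f g) * D.j := by
  have hz := D.z_act (iV f g)
  change D.z * tr D (iV f g) * D.z⁻¹ = tr D (app zMat (iV f g)) at hz
  have hi : app zMat (iV f g) = -iV f g :=
    (by decide +kernel : ∀ f g : ZMod 3, app zMat (iV f g) = -iV f g) f g
  rw [hi] at hz
  calc D.j * sieg D f g = (D.j * D.j) * tr D (iV f g) * (D.j⁻¹) := by rw [sieg]; group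
    _ = D.z * tr D (iV f g) * (D.z * D.j) := by rw [D.j_sq, j_inv]
    _ = D.z * tr D (iV f g) * D.z⁻¹ * D.j := by
        rw [show D.z⁻¹ = D.z from inv_eq_of_mul_eq_one_right D.z_sq]; group
    _ = tr D (-iV f g) * D.j := by rw [hz]

theorem zs_near : D.z • D.s • qNear D = D.s • qNear D := by
  rw [← mul_smul, D.zs, mul_smul, z_fix_near]

theorem jyj (l : ZMod 3) (hl : l ≠ 0) :
    D.j • tr D (l • yV) • D.j • D.s • qNear D = tr D (-l • yV) • qFar D := by
  have hy : D.j * tr D yV * D.j = tr D (-yV) * D.j⁻¹ * tr D (-yV) := D.j_y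
  have hzy : D.z * tr D yV = tr D yV * D.z := by
    have h := D.z_act yV
    change D.z * tr D yV * D.z⁻¹ = tr D (app zMat yV) at h
    rw [show app zMat yV = yV by decide +kernel] at h
    exact mul_inv_eq_iff_eq_mul.mp h
  have key : ∀ e : G, (e = D.j ∨ e = D.j⁻¹) → ∀ w : V4, app sMat w = (-l) • xV →
      e • tr D w • D.s • qNear D = qFar D := by
    intro e he w hw
    have h1 : tr D w • D.s • qNear D = D.s • qNear D := by
      rw [← mul_smul, tr_s, hw, mul_smul, (tr_fix_near D).mpr]
      exact (by decide +kernel : ∀ c : ZMod 3, bA xV (c • xV) = 0) (-l)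
    rw [h1]
    have hq : D.j • D.s • qNear D = qFar D := by
      rw [qNear, qFar, MulAction.Quotient.smul_coe, MulAction.Quotient.smul_coe, smul_eq_mul,
        smul_eq_mul, mul_assoc]
    rcases he with rfl | rfl
    · exact hq
    · rw [j_inv', mul_smul, zs_near, hq]
  have hsy : app sMat ((-l) • yV) = (-l) • xV :=
    (by decide +kernel : ∀ c : ZMod 3, app sMat (c • yV) = c • xV) (-l)
  rcases (by decide +kernel : ∀ c : ZMod 3, c = 0 ∨ c = 1 ∨ c = -1) l with rfl | rfl | rfl
  · exact absurd rfl hl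
  · rw [one_smul] at *
    simp only [neg_one_smul] at hsy ⊢
    rw [← mul_smul, ← mul_smul, hy, mul_smul, mul_smul,
      key _ (Or.inr rfl) (-yV) (by rw [hsy]; decide +kernel)]
  · simp only [neg_neg, one_smul, neg_one_smul] at hsy ⊢
    have hy' : D.j * tr D (-yV) * D.j = tr D yV * D.j * tr D yV := by
      have h : D.j⁻¹ * tr D (-yV) * D.j⁻¹ = tr D yV * D.j * tr D yV := by
        have := congrArg (fun g => g⁻¹) hy
        simp only [mul_inv_rev, inv_inv, ← tr_neg, neg_neg] at this
        simpa only [mul_assoc] using this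
      rw [← h, tr_neg]
      calc D.j * (tr D yV)⁻¹ * D.j = D.j * (tr D yV)⁻¹ * (D.z * D.z) * D.j := by
            rw [D.z_sq, mul_one]
        _ = (D.j * D.z) * (tr D yV)⁻¹ * (D.z * D.j) := by
            rw [show D.j * (tr D yV)⁻¹ * (D.z * D.z) * D.j =
              D.j * ((tr D yV)⁻¹ * D.z) * (D.z * D.j) by group,
              show (tr D yV)⁻¹ * D.z = D.z * (tr D yV)⁻¹ from
                (show Commute D.z (tr D yV) from hzy).inv_right.eq.symm]
            group
        _ = D.j⁻¹ * (tr D yV)⁻¹ * D.j⁻¹ := by rw [← j_inv', ← j_inv]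
    rw [← mul_smul, ← mul_smul, hy', mul_smul, mul_smul,
      key _ (Or.inl rfl) yV (by rw [hsy, neg_neg, one_smul])]

theorem qFar_eq : qFar D = D.j • D.s • qNear D := by
  rw [qNear, qFar, MulAction.Quotient.smul_coe, MulAction.Quotient.smul_coe, smul_eq_mul,
    smul_eq_mul, mul_assoc]

theorem rel_j_far (a : V4) : Rel D (jAct (.far a)) (D.j • tr D a • qFar D) := by
  obtain ⟨p, q, r, t, e⟩ := vec_cases a
  have hj := ptCode_inj (jAct_far p q r t)
  rw [← e] at hj
  rw [hj]
  have hr : r = a 2 := by rw [e]; rfl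
  have ht : t = a 3 := by rw [e]; rfl
  subst hr ht
  set k := bA a yV
  set l := bA a xV with hl
  have hmove : D.j • tr D a • qFar D =
      el D (k • xV) (siegel (a 2) (a 3)) • D.j • tr D (l • yV) • D.j • D.s • qNear D := by
    conv_lhs => rw [vec_decomp a, tr_add, tr_add, qFar_eq]
    simp only [← mul_smul, el, lift_siegel, sieg]
    congr 1
    rw [show D.j * (tr D (k • xV) * tr D (iV (a 2) (a 3)) * tr D (l • yV) * (D.j * D.s)) =
      (D.j * tr D (k • xV)) * (tr D (iV (a 2) (a 3)) * tr D (l • yV) * (D.j * D.s)) by group,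
      j_tr_x]
    group
  rw [hmove]
  split
  next h0 =>
    rw [h0, zero_smul, tr_zero, one_smul]
    have : D.j • D.j • D.s • qNear D = D.s • qNear D := by
      rw [← mul_smul D.j D.j, D.j_sq, zs_near]
    rw [this, ← mul_smul,
      show el D (k • xV) (siegel (a 2) (a 3)) * D.s =
        el D (k • xV) (siegel (a 2) (a 3) * sMat) by
        rw [el, el, lift_mul D (inL_siegel _ _) inL_s, lift_s, mul_assoc]]
    exact near_rel D _ (InL_mul (inL_siegel _ _) inL_s)
  next h0 =>
    rw [jyj D l h0, ← el_far D ((-l) • yV) inL_one, ← mul_smul, el_mul D _ _ (inL_siegel _ _) inL_one,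
      el_far D _ (InL_mul (inL_siegel _ _) inL_one)]
    exact far_rel D _

theorem rel_j {p : Pt} {q : G ⧸ D.N} (h : Rel D p q) : Rel D (jAct p) (D.j • q) := by
  have hv := h.valid D
  cases p with
  | top =>
    rw [(Rel.iff D h (top_rel D)).mp rfl]
    show Rel D pNear _
    rw [show D.j • qTop D = qNear D by
      rw [qTop, qNear, MulAction.Quotient.smul_coe, smul_eq_mul, mul_one]]
    exact Base.rel D (Or.inr (Or.inl ⟨rfl, rfl⟩))
  | far a => rw [(Rel.iff D h (far_rel D a)).mp rfl]; exact rel_j_far D a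
  | near v c =>
    obtain ⟨p, r, s, t, rfl⟩ := vec_cases v
    rcases near_cases p r s t c hv with ⟨k, hk⟩ | ⟨k, f, g, hk⟩
    · have hk' := ptCode_inj hk
      rw [hk'] at h ⊢
      rw [(Rel.iff D h (near_rel D (k • yV) inL_one)).mp rfl, ptCode_inj (jAct_near_one k)]
      rw [el, lift_one, mul_one]
      have hc : D.j • tr D (k • yV) • qNear D = (D.j * tr D (k • yV) * D.j) • qTop D := by
        rw [qTop, qNear]; simp only [MulAction.Quotient.smul_coe, smul_eq_mul]; group
      split
      next h0 =>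
        subst h0
        rw [hc, zero_smul, tr_zero, mul_one, D.j_sq, fix_top D D.z_mem]
        exact top_rel D
      next h0 =>
        have hjy : D.j • tr D (k • yV) • qNear D = tr D ((-k) • yV) • qNear D := by
          have hy : D.j * tr D yV * D.j = tr D (-yV) * D.j⁻¹ * tr D (-yV) := D.j_y
          have hinvn : D.j⁻¹ • qTop D = qNear D := by
            rw [qTop, qNear, MulAction.Quotient.smul_coe, smul_eq_mul, mul_one, QuotientGroup.eq,
              inv_inv, D.j_sq]
            exact D.z_mem
          rcases (by decide +kernel : ∀ c : ZMod 3, c = 0 ∨ c = 1 ∨ c = -1) k with rfl | rfl | rfl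
          · exact absurd rfl h0
          · rw [hc, one_smul, hy, mul_smul, fix_top D (tr_mem D _), mul_smul, hinvn,
              neg_one_smul]
          · have hj1 : D.j⁻¹ • qNear D = qTop D := by
              rw [qTop, qNear, MulAction.Quotient.smul_coe, smul_eq_mul, inv_mul_cancel]
            simp only [neg_neg, one_smul, neg_one_smul]
            have h1 : D.j • tr D yV • qNear D = tr D (-yV) • qNear D := by
              rw [show D.j • tr D yV • qNear D = (D.j * tr D yV * D.j) • qTop D by
                rw [qTop, qNear]; simp only [MulAction.Quotient.smul_coe, smul_eq_mul]; group,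
                hy, mul_smul, fix_top D (tr_mem D _), mul_smul, hinvn]
            rw [← h1, ← mul_smul D.j D.j, D.j_sq, ← mul_smul]
            have hzy : D.z * tr D yV = tr D yV * D.z := by
              have h := D.z_act yV
              change D.z * tr D yV * D.z⁻¹ = tr D (app zMat yV) at h
              rw [show app zMat yV = yV by decide +kernel] at h
              exact mul_inv_eq_iff_eq_mul.mp h
            rw [hzy, mul_smul, z_fix_near]
        rw [hjy]
        have := near_rel D ((-k) • yV) inL_one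
        rwa [el, lift_one, mul_one] at this
    · have hk' := ptCode_inj hk
      have hm := InL_mul (inL_siegel f g) inL_s
      rw [hk'] at h ⊢
      rw [(Rel.iff D h (near_rel D (k • xV) hm)).mp rfl, ptCode_inj (jAct_near_two k f g)]
      have : D.j • el D (k • xV) (siegel f g * sMat) • qNear D =
          tr D (k • xV + -iV f g) • qFar D := by
        rw [el, lift_mul D (inL_siegel f g) inL_s, lift_s, lift_siegel, qFar_eq, tr_add]
        simp only [← mul_smul]
        congr 1
        calc D.j * (tr D (k • xV) * (sieg D f g * D.s))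
            = (D.j * tr D (k • xV)) * (sieg D f g * D.s) := by group
          _ = tr D (k • xV) * (D.j * sieg D f g) * D.s := by rw [j_tr_x]; group
          _ = tr D (k • xV) * tr D (-iV f g) * (D.j * D.s) := by rw [j_sieg]; group
      rw [this]
      exact far_rel D _

end H63.UFour
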