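import Cfsg.Agent.H63.UFour.Orbit

/-!
# The generated group is the model group
-/

set_option autoImplicit false

namespace H63.UFour

open H87.U43

variable {G : Type*} [Group G] (D : Datum G)

/-- valid points -/
abbrev VPt := {p : Pt // Valid p}

theorem rel_total (p : VPt) : ∃ q, Rel D p.1 q := by
  obtain ⟨p, hp⟩ := p
  cases p with
  | top => exact ⟨_, top_rel D⟩
  | far a => exact ⟨_, far_rel D a⟩
  | near v c =>
    obtain ⟨a, b, e, f, rfl⟩ := vec_cases v
    rcases near_cases a b e f c hp with ⟨k, hk⟩ | ⟨k, s, t, hk⟩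
    · exact ⟨_, ptCode_inj hk ▸ near_rel D _ inL_one⟩
    · exact ⟨_, ptCode_inj hk ▸ near_rel D _ (InL_mul (inL_siegel s t) inL_s)⟩

/-- the coset of a point -/
noncomputable def coset (p : VPt) : G ⧸ D.N := (rel_total D p).choose

theorem coset_rel (p : VPt) : Rel D p.1 (coset D p) := (rel_total D p).choose_spec

theorem coset_eq {p : VPt} {q : G ⧸ D.N} (h : Rel D p.1 q) : coset D p = q :=
  ((coset_rel D p).iff D h).mp rfl

/-- `g` and `g⁻¹` permute the cosets of points -/
def Stable (g : G) : Prop :=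
  ∀ p : VPt, (∃ p' : VPt, g • coset D p = coset D p') ∧ ∃ p' : VPt, g⁻¹ • coset D p = coset D p'

theorem moves_el (a : V4) {m : M4} (hm : InL m) (p : VPt) :
    el D a m • coset D p = coset D ⟨affAct a m p.1, affAct_valid p.2 a hm⟩ :=
  (coset_eq D (p := ⟨_, affAct_valid p.2 a hm⟩) ((coset_rel D p).smul D a hm)).symm

theorem moves_j (p : VPt) :
    D.j • coset D p = coset D ⟨jAct p.1, (rel_j D (coset_rel D p)).valid D⟩ :=
  (coset_eq D (p := ⟨jAct p.1, (rel_j D (coset_rel D p)).valid D⟩)
    (rel_j D (coset_rel D p))).symm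

theorem moves_N {g : G} (hg : g ∈ D.N) (p : VPt) :
    ∃ p' : VPt, g • coset D p = coset D p' := by
  obtain ⟨a, m, hm, rfl⟩ := el_surj D hg
  exact ⟨_, moves_el D a hm p⟩

theorem stable_of_mem {g : G} (hg : g ∈ D.G0) : Stable D g := by
  rw [Datum.G0] at hg
  induction hg using Subgroup.closure_induction with
  | mem x hx =>
    rcases hx with hx | rfl
    · exact fun p => ⟨moves_N D hx p, moves_N D (inv_mem hx) p⟩
    · refine fun p => ⟨⟨_, moves_j D p⟩, ?_⟩
      obtain ⟨p', e⟩ := moves_N D D.z_mem ⟨jAct p.1, (rel_j D (coset_rel D p)).valid D⟩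
      exact ⟨p', by rw [j_inv, mul_smul, moves_j, e]⟩
  | one => exact fun p => ⟨⟨p, one_smul _ _⟩, ⟨p, by rw [inv_one, one_smul]⟩⟩
  | mul x y _ _ hx hy =>
    intro p
    obtain ⟨⟨p1, e1⟩, -⟩ := hy p
    obtain ⟨⟨p2, e2⟩, ⟨p3, e3⟩⟩ := hx p1
    obtain ⟨-, ⟨p4, e4⟩⟩ := hx p
    obtain ⟨-, ⟨p5, e5⟩⟩ := hy p4
    exact ⟨⟨p2, by rw [mul_smul, e1, e2]⟩, ⟨p5, by rw [mul_inv_rev, mul_smul, e4, e5]⟩⟩
  | inv x _ hx => exact fun p => ⟨(hx p).2, by rw [inv_inv]; exact (hx p).1⟩

theorem coset_injective : Function.Injective (coset D) := fun p p' h =>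
  Subtype.ext (((coset_rel D p).iff D (coset_rel D p')).mpr h)

/-- the image of a point -/
noncomputable def move (g : D.G0) (p : VPt) : VPt := ((stable_of_mem D g.2) p).1.choose

theorem move_spec (g : D.G0) (p : VPt) : (g : G) • coset D p = coset D (move D g p) :=
  ((stable_of_mem D g.2) p).1.choose_spec

theorem move_eq {g : D.G0} {p p' : VPt} (h : (g : G) • coset D p = coset D p') :
    move D g p = p' := coset_injective D (by rw [← move_spec, h])

theorem move_mul (g h : D.G0) (p : VPt) : move D (g * h) p = move D g (move D h p) :=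
  move_eq D (by rw [Subgroup.coe_mul, mul_smul, move_spec, move_spec])

theorem move_one (p : VPt) : move D 1 p = p := move_eq D (by rw [Subgroup.coe_one, one_smul])

/-- the permutation representation -/
noncomputable def perm : D.G0 →* Equiv.Perm VPt where
  toFun g :=
    { toFun := move D g
      invFun := move D g⁻¹
      left_inv := fun p => by rw [← move_mul, inv_mul_cancel, move_one]
      right_inv := fun p => by rw [← move_mul, mul_inv_cancel, move_one] }
  map_one' := Equiv.ext (move_one D)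
  map_mul' g h := Equiv.ext (move_mul D g h)

theorem N_le : D.N ≤ D.G0 := fun _ hg => Subgroup.subset_closure (Or.inl hg)

theorem j_mem : D.j ∈ D.G0 := Subgroup.subset_closure (Or.inr rfl)

theorem perm_el (a : V4) {m : M4} (hm : InL m) (h : el D a m ∈ D.G0) (p : VPt) :
    ((perm D ⟨_, h⟩) p).1 = affAct a m p.1 :=
  congrArg Subtype.val (move_eq D (g := ⟨_, h⟩) (moves_el D a hm p))

theorem perm_j (h : D.j ∈ D.G0) (p : VPt) : ((perm D ⟨_, h⟩) p).1 = jAct p.1 :=
  congrArg Subtype.val (move_eq D (g := ⟨_, h⟩) (moves_j D p))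

theorem perm_mem_model : ∀ (g : G) (hg : g ∈ D.G0), perm D ⟨g, hg⟩ ∈ modelGroup := by
  have hN : ∀ (g : G) (hg : g ∈ D.N) (h : g ∈ D.G0), perm D ⟨g, h⟩ ∈ modelGroup := by
    intro g hg h
    obtain ⟨a, m, hm, rfl⟩ := el_surj D hg
    have h1 : el D a 1 ∈ D.G0 := N_le D (el_mem D a inL_one)
    have h2 : el D 0 m ∈ D.G0 := N_le D (el_mem D 0 hm)
    have e : (⟨el D a m, h⟩ : D.G0) = ⟨_, h1⟩ * ⟨_, h2⟩ := by
      apply Subtype.ext
      show el D a m = el D a 1 * el D 0 m
      rw [el_mul D _ _ inL_one hm, app_zero, add_zero, one_mul]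
    rw [e, map_mul]
    exact mul_mem (Subgroup.subset_closure (Or.inr (Or.inl ⟨a, perm_el D a inL_one h1⟩)))
      (Subgroup.subset_closure (Or.inr (Or.inr ⟨m, hm, perm_el D 0 hm h2⟩)))
  intro g hg
  change g ∈ Subgroup.closure ((D.N : Set G) ∪ {D.j}) at hg
  induction hg using Subgroup.closure_induction with
  | mem x hx =>
    rcases hx with hx | rfl
    · exact hN x hx _
    · exact Subgroup.subset_closure (Or.inl fun p => perm_j D _ p)
  | one => exact map_one (perm D) ▸ one_mem _
  | mul x y hx hy ihx ihy =>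
    have := mul_mem ihx ihy
    rw [← map_mul] at this; exact this
  | inv x hx ih =>
    have := inv_mem ih
    rw [← map_inv] at this; exact this

theorem perm_range : (perm D).range = modelGroup := by
  refine le_antisymm ?_ ((Subgroup.closure_le _).mpr ?_)
  · rintro _ ⟨g, rfl⟩; exact perm_mem_model D g.1 g.2
  · rintro σ (hσ | ⟨a, hσ⟩ | ⟨m, hm, hσ⟩)
    · exact ⟨⟨_, j_mem D⟩, Equiv.ext fun p => Subtype.ext (by rw [perm_j, hσ])⟩
    · exact ⟨⟨_, N_le D (el_mem D a inL_one)⟩,
        Equiv.ext fun p => Subtype.ext (by rw [perm_el D a inL_one, hσ])⟩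
    · exact ⟨⟨_, N_le D (el_mem D 0 hm)⟩,
        Equiv.ext fun p => Subtype.ext (by rw [perm_el D 0 hm, hσ])⟩

/-- the base point -/
def vTop : VPt := ⟨.top, trivial⟩

theorem coset_top : coset D vTop = qTop D := coset_eq D (top_rel D)

theorem mem_N_of_perm_top {g : D.G0} (h : perm D g vTop = vTop) : (g : G) ∈ D.N := by
  have e := move_spec D g vTop
  rw [show move D g vTop = vTop from h, coset_top, qTop, fix_iff] at e
  simpa using e

theorem perm_injective : Function.Injective (perm D) := by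
  refine (injective_iff_map_eq_one _).mpr fun g hg => ?_
  have hN := mem_N_of_perm_top D (g := g) (by rw [hg]; rfl)
  obtain ⟨a, m, hm, e⟩ := el_surj D hN
  have hg0 : el D a m ∈ D.G0 := N_le D (el_mem D a hm)
  have eg : g = ⟨el D a m, hg0⟩ := Subtype.ext e
  have key : ∀ w, a + app m w = w := by
    intro w
    have h := perm_el D a hm hg0 ⟨.far w, trivial⟩
    rw [← eg, hg] at h
    exact (Pt.far.injEq _ _).mp h.symm
  have ha : a = 0 := by simpa [app_zero] using key 0
  have hm1 : m = 1 := app_injective fun v => by rw [app_one]; simpa [ha] using key v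
  apply Subtype.ext
  rw [e, ha, hm1, el, tr_zero, lift_one, one_mul]; rfl

theorem perm_transitive (p : VPt) : ∃ g : D.G0, perm D g vTop = p := by
  have hfar : ∃ g ∈ D.G0, g • qTop D = qFar D := by
    refine ⟨D.j * D.s * D.j, mul_mem (mul_mem (j_mem D) (N_le D D.s_mem)) (j_mem D), ?_⟩
    rw [qTop, qFar, MulAction.Quotient.smul_coe, smul_eq_mul, mul_one]
  have hnear : ∃ g ∈ D.G0, g • qTop D = qNear D := by
    refine ⟨D.j, j_mem D, ?_⟩
    rw [qTop, qNear, MulAction.Quotient.smul_coe, smul_eq_mul, mul_one]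
  obtain ⟨p0, q0, hb, a, m, hm, hp, hq⟩ := coset_rel D p
  obtain ⟨g, hg, e⟩ : ∃ g ∈ D.G0, g • qTop D = q0 := by
    rcases hb with ⟨-, rfl⟩ | ⟨-, rfl⟩ | ⟨-, rfl⟩
    · exact ⟨1, one_mem _, one_smul _ _⟩
    · exact hnear
    · exact hfar
  refine ⟨⟨el D a m * g, mul_mem (N_le D (el_mem D a hm)) hg⟩, move_eq D ?_⟩
  rw [coset_top, Subgroup.coe_mk, mul_smul, e, hq]

/-! ## orders -/

/-- `N` is parametrised by translation and matrix -/
theorem card_N : Nat.card D.N = 81 * 360 := by
  let f : V4 × {m : M4 // InL m} → D.N := fun x => ⟨el D x.1 x.2.1, el_mem D x.1 x.2.2⟩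
  have hf : Function.Bijective f :=
    ⟨fun x y h => by
      obtain ⟨h1, h2⟩ := el_inj D x.2.2 y.2.2 (congrArg Subtype.val h)
      exact Prod.ext h1 (Subtype.ext h2),
    fun g => by
      obtain ⟨a, m, hm, e⟩ := el_surj D g.2
      exact ⟨(a, ⟨m, hm⟩), Subtype.ext e.symm⟩⟩
  rw [← Nat.card_eq_of_bijective f hf, Nat.card_prod, card_inL]
  simp

/-- valid points by shape -/
def ptEquiv : VPt ≃ Option ({x : V4 × ZMod 3 // IsNear x} ⊕ V4) where
  toFun p := match p with
    | ⟨.top, _⟩ => none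
    | ⟨.near v c, h⟩ => some (.inl ⟨(v, c), h⟩)
    | ⟨.far a, _⟩ => some (.inr a)
  invFun x := match x with
    | none => vTop
    | some (.inl y) => ⟨.near y.1.1 y.1.2, y.2⟩
    | some (.inr a) => ⟨.far a, trivial⟩
  left_inv := by rintro ⟨_ | _ | _, h⟩ <;> rfl
  right_inv := by rintro (_ | _ | _) <;> rfl

theorem card_VPt : Nat.card VPt = 112 := by
  rw [Nat.card_congr ptEquiv, Nat.card_eq_fintype_card]
  decide +kernel

theorem card_G0 : Nat.card D.G0 = 3265920 := by
  let _ : MulAction D.G0 VPt := MulAction.compHom VPt (perm D)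
  have horb : MulAction.orbit D.G0 vTop = Set.univ :=
    Set.eq_univ_of_forall fun p => perm_transitive D p
  have hstab : MulAction.stabilizer D.G0 vTop = D.N.subgroupOf D.G0 := by
    ext g
    rw [MulAction.mem_stabilizer_iff, Subgroup.mem_subgroupOf]
    refine ⟨fun h => mem_N_of_perm_top D h, fun h => ?_⟩
    obtain ⟨a, m, hm, e⟩ := el_surj D h
    obtain rfl : g = ⟨el D a m, N_le D (el_mem D a hm)⟩ := Subtype.ext e
    exact Subtype.ext ((perm_el D a hm _ vTop).trans rfl)
  have h := Nat.card_congr (MulAction.orbitProdStabilizerEquivGroup D.G0 vTop)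
  rw [Nat.card_prod, hstab, Nat.card_congr (Subgroup.subgroupOfEquivOfLe (N_le D)).toEquiv,
    card_N, horb, Nat.card_congr (Equiv.Set.univ VPt), card_VPt] at h
  exact h.symm

include D in
theorem card_model : Nat.card modelGroup = 3265920 := by
  rw [← perm_range D, ← card_G0 D,
    Nat.card_congr (MonoidHom.ofInjective (perm_injective D)).toEquiv]

/-- the isomorphism with the model -/
noncomputable def modelEquiv : D.G0 ≃* modelGroup :=
  (MonoidHom.ofInjective (perm_injective D)).trans (MulEquiv.subgroupCongr (perm_range D))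

end H63.UFour
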