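import Cfsg.Agent.H87.U43.Interface

/-!
# The elementary abelian subgroup of order 81: interface
-/

set_option autoImplicit false

namespace H63.UFour

open H87.U43

variable {G : Type*} [Group G]

/-- the subgroup `A ≅ 3^4` with its coordinates -/
structure ADat (F : Frame G) where
  alpha : Multiplicative V4 →* G
  alpha_inj : Function.Injective alpha
  a_x : alpha (Multiplicative.ofAdd xV) = F.mu (sX, 1)
  a_y : alpha (Multiplicative.ofAdd yV) = F.mu (1, sX)
  z_act : ∀ v : V4, F.z * alpha (Multiplicative.ofAdd v) * F.z⁻¹ =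
    alpha (Multiplicative.ofAdd (app zMat v))
  s_act : ∀ v : V4, F.s * alpha (Multiplicative.ofAdd v) * F.s⁻¹ =
    alpha (Multiplicative.ofAdd (app sMat v))
  tau_act : ∀ v : V4, F.tau * alpha (Multiplicative.ofAdd v) * F.tau⁻¹ =
    alpha (Multiplicative.ofAdd (app tauMat v))
  /-- `A` is self centralising -/
  cent : ∀ g : G, (∀ v : V4, g * alpha (Multiplicative.ofAdd v) =
    alpha (Multiplicative.ofAdd v) * g) → g ∈ alpha.range
  /-- the centraliser of a nonsingular vector contains a four group -/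
  four : ∀ v : V4, qA v ≠ 0 → ∃ a b : G, a * a = 1 ∧ b * b = 1 ∧ a ≠ 1 ∧ b ≠ 1 ∧ a ≠ b ∧
    a * b = b * a ∧ a * alpha (Multiplicative.ofAdd v) = alpha (Multiplicative.ofAdd v) * a ∧
    b * alpha (Multiplicative.ofAdd v) = alpha (Multiplicative.ofAdd v) * b

end H63.UFour
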