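import Cfsg.Agent.H63.UFour.LFacts

/-!
# `L` is generated by the matrices coming from the two axes
-/

set_option autoImplicit false
set_option synthInstance.maxSize 2000
set_option synthInstance.maxHeartbeats 200000

namespace H63.UFour

open H87.U43

/-- matrix of `e'` -/
def mE : M4 := !![0, 0, 2, 1; 0, 1, 0, 0; 1, 0, 2, 2; 1, 0, 1, 1]

/-- shape of a matrix of `e'` -/
def shapeE (c p q : ZMod 3) : M4 := !![0, 0, p, -p; 0, 1, 0, 0; c, 0, q, q; c, 0, -q, -q]

theorem shapeE_cases : ∀ c p q : ZMod 3,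
    shapeE c p q * shapeE c p q * shapeE c p q = 1 →
    shapeE c p q = mE ∨ shapeE c p q = mE * zMat ∨ shapeE c p q = mE * spMat ∨
      shapeE c p q = mE * (spMat * zMat) := by
  decide +kernel

theorem colZero_shape : ∀ a b c d : ZMod 3,
    app spMat ![a, b, c, d] = ![a, b, c, d] →
    app (spMat * zMat) ![a, b, c, d] = -![a, b, c, d] →
      ![a, b, c, d] = (![0, 0, c, c] : V4) := by decide +kernel

theorem colTwo_shape : ∀ a b c d : ZMod 3,
    app spMat ![a, b, c, d] = -![a, b, c, d] →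
      ![a, b, c, d] = (![a, 0, c, -c] : V4) ∧
        app (spMat * zMat) ![a, b, c, d] = (![-a, 0, c, -c] : V4) := by decide +kernel

theorem inL_eMat : InL eMat :=
  inL_of_gen (g := ⟨eMat, eMat * eMat, by decide +kernel, by decide +kernel⟩)
    (Or.inr (Or.inr (Or.inr (Or.inl rfl))))

theorem mE_listed : ∃ i : Fin 360, lMat i.1 = mE := by decide +kernel

theorem inL_mE : InL mE := by
  obtain ⟨i, hi⟩ := mE_listed
  exact hi ▸ inL_lMat i

theorem siegel_words :
    siegel 1 0 = spMat * eMat * mE * mE * eMat ∧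
      siegel 0 1 = eMat * sMat * mE * eMat * eMat * zMat := by decide +kernel

theorem invol_mats : zMat * zMat = 1 ∧ spMat * spMat = 1 ∧
    (spMat * zMat) * (spMat * zMat) = 1 ∧ sMat * spMat = tauMat := by decide +kernel

/-- a predicate closed under products holding for the six matrices holds on `L` -/
theorem InL_of_axes {P : M4 → Prop} (h1 : P 1) (hmul : ∀ m n, P m → P n → P (m * n))
    (hz : P zMat) (hs : P sMat) (hsp : P spMat) (he : P eMat) (hf : P mE) {m : M4} (hm : InL m) :
    P m := by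
  refine InL_induction (P := P) h1 (fun i n _ hn => hmul _ _ ?_ hn) hm
  fin_cases i
  · exact hz
  · exact hs
  · exact hmul _ _ hs hsp
  · show P (siegel 1 0)
    rw [siegel_words.1]; exact hmul _ _ (hmul _ _ (hmul _ _ (hmul _ _ hsp he) hf) hf) he
  · show P (siegel 0 1)
    rw [siegel_words.2]
    exact hmul _ _ (hmul _ _ (hmul _ _ (hmul _ _ (hmul _ _ he hs) hf) he) he) hz

theorem orbit_list : ∀ a b c d : ZMod 3, qA ![a, b, c, d] ≠ 0 →
    ∃ i : Fin 360, app (lMat i.1) d1V = ![a, b, c, d] ∨ app (lMat i.1) d2V = ![a, b, c, d] := by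
  decide +kernel

theorem nonsing_orbit {v : V4} (h : qA v ≠ 0) :
    ∃ m, InL m ∧ (app m d1V = v ∨ app m d2V = v) := by
  obtain ⟨a, b, c, d, rfl⟩ := vec_cases v
  obtain ⟨i, hi⟩ := orbit_list a b c d h
  exact ⟨_, inL_lMat i, hi⟩

end H63.UFour
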