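import Cfsg.Agent.H63.UFour.ThreeGrow
import Cfsg.Agent.H63.UFour.ThreeWords
import Cfsg.Agent.H63.UFour.ThreeInterface

/-!
# The coordinates on `A` and the subgroup acting as `L`
-/

set_option autoImplicit false

namespace H63.UFour

open H87.U43

variable {G : Type*} [Group G] [Finite G] (F : Frame G)

/-- the core of `C(P₀)` -/
noncomputable def coreSub : Subgroup G := (exists_core F).choose

theorem coreSub_spec : IsCore F (coreSub F) := (exists_core F).choose_spec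

theorem core_conj_e {o : G} (h : o ∈ coreSub F) : F.e * o * F.e⁻¹ ∈ coreSub F :=
  (axis_one F).conj_core (coreSub_spec F) (core_ne F (coreSub_spec F)) h

theorem core_conj_e' {o : G} (h : o ∈ coreSub F) : F.e' * o * F.e'⁻¹ ∈ coreSub F :=
  (axis_two F).conj_core (coreSub_spec F) (core_ne F (coreSub_spec F)) h

theorem core_eq_one : coreSub F = Subgroup.closure (Axis.Gens F F.e) :=
  (axis_one F).core_eq (coreSub_spec F) (core_ne F (coreSub_spec F))

theorem core_comm {a b : G} (ha : a ∈ coreSub F) (hb : b ∈ coreSub F) : a * b = b * a := by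
  have hgen : ∀ g ∈ Axis.Gens F F.e, ∀ o ∈ coreSub F, o * g = g * o := by
    intro g hg o ho
    have hc : ∀ n : ℕ, ∀ x ∈ coreSub F, F.e ^ n * x * (F.e ^ n)⁻¹ ∈ coreSub F := by
      intro n
      induction n with
      | zero => intro x hx; simpa using hx
      | succ n ih =>
        intro x hx
        rw [pow_succ', show F.e * F.e ^ n * x * (F.e * F.e ^ n)⁻¹ =
          F.e * (F.e ^ n * x * (F.e ^ n)⁻¹) * F.e⁻¹ by group]
        exact core_conj_e F (ih x hx)
    have hmain : ∀ f : G, f⁻¹ * g * f ∈ pSub F → f⁻¹ * o * f ∈ coreSub F → o * g = g * o := by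
      intro f hf hfo
      have h := (mem_cZero F).mp ((coreSub_spec F).1 hfo) _ hf
      calc o * g = f * ((f⁻¹ * o * f) * (f⁻¹ * g * f)) * f⁻¹ := by group
        _ = g * o := by rw [← h]; group
    rcases hg with h | h | h
    · exact ((mem_cZero F).mp ((coreSub_spec F).1 ho) g h).symm
    · refine hmain _ h ?_
      have h2 := hc 2 o ho
      have e : F.e⁻¹ = F.e ^ 2 := inv_eq_of_mul_eq_one_right (by rw [← pow_succ']; exact F.e_cube)
      have e2 : F.e = (F.e ^ 2)⁻¹ := eq_inv_of_mul_eq_one_left (by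
        rw [← pow_succ']; exact F.e_cube)
      rw [e]; nth_rewrite 2 [e2]; exact h2
    · refine hmain _ h ?_
      have h1 := hc 1 o ho
      have e : (F.e * F.e)⁻¹ = F.e := inv_eq_of_mul_eq_one_left (by
        rw [← mul_assoc, ← pow_three', F.e_cube])
      have e2 : F.e * F.e = F.e⁻¹ := by rw [← inv_inv (F.e * F.e), e]
      rw [e, e2]; simpa using h1
  have hle : coreSub F ≤ Subgroup.centralizer (coreSub F : Set G) := by
    conv_lhs => rw [core_eq_one F]
    rw [Subgroup.closure_le]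
    exact fun g hg => Subgroup.mem_centralizer_iff.mpr fun o ho => hgen g hg o ho
  exact (Subgroup.mem_centralizer_iff.mp (hle ha) b hb).symm

/-- `i₁` -/
def iOne : G := F.e * dTwo F * F.e⁻¹

/-- `i₂` -/
def iTwo : G := (F.s * F.tau) * iOne F * (F.s * F.tau)⁻¹

theorem dOne_mem : dOne F ∈ coreSub F := (coreSub_spec F).pSub_le (axis_one F).d_mem

theorem dTwo_mem : dTwo F ∈ coreSub F := (coreSub_spec F).pSub_le (axis_two F).d_mem

theorem iOne_mem : iOne F ∈ coreSub F := core_conj_e F (dTwo_mem F)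

theorem iTwo_mem : iTwo F ∈ coreSub F :=
  (coreSub_spec F).norm (g := F.s * F.tau) (fun p hp => by
    simpa [invol_inv_eq (stau_sq F)] using (axis_two F).v_norm p hp) (iOne_mem F)

theorem dTwo_cube : dTwo F ^ 3 = 1 := pSub_cube F (axis_two F).d_mem

theorem dOne_cube : dOne F ^ 3 = 1 := pSub_cube F (axis_one F).d_mem

theorem iOne_cube : iOne F ^ 3 = 1 := by rw [iOne, conj_pow, dTwo_cube]; group

theorem iTwo_cube : iTwo F ^ 3 = 1 := by rw [iTwo, conj_pow, iOne_cube]; group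

theorem pow_val_add {g : G} (hg : g ^ 3 = 1) (a b : ZMod 3) :
    g ^ (a + b).val = g ^ a.val * g ^ b.val := by
  rw [← pow_add, ZMod.val_add]
  exact (pow_eq_pow_mod _ hg).symm

/-- the coordinate map -/
def coordFun (v : V4) : G :=
  dOne F ^ (v 0).val * dTwo F ^ (v 1).val * iOne F ^ (v 2).val * iTwo F ^ (v 3).val

theorem coordFun_add (u v : V4) : coordFun F (u + v) = coordFun F u * coordFun F v := by
  have hc : ∀ {a b : G}, a ∈ coreSub F → b ∈ coreSub F → Commute a b :=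
    fun ha hb => core_comm F ha hb
  simp only [coordFun, Pi.add_apply, pow_val_add (dOne_cube F), pow_val_add (dTwo_cube F),
    pow_val_add (iOne_cube F), pow_val_add (iTwo_cube F)]
  set a := dOne F ^ (u 0).val
  set a' := dOne F ^ (v 0).val
  set b := dTwo F ^ (u 1).val
  set b' := dTwo F ^ (v 1).val
  set c := iOne F ^ (u 2).val
  set c' := iOne F ^ (v 2).val
  set d := iTwo F ^ (u 3).val
  set d' := iTwo F ^ (v 3).val
  have hb : b ∈ coreSub F := pow_mem (dTwo_mem F) _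
  have hc' : c' ∈ coreSub F := pow_mem (iOne_mem F) _
  have ha' : a' ∈ coreSub F := pow_mem (dOne_mem F) _
  have hb' : b' ∈ coreSub F := pow_mem (dTwo_mem F) _
  have hcc : c ∈ coreSub F := pow_mem (iOne_mem F) _
  have hd : d ∈ coreSub F := pow_mem (iTwo_mem F) _
  calc a * a' * (b * b') * (c * c') * (d * d')
      = a * (a' * b) * b' * (c * (c' * d)) * d' := by group
    _ = a * (b * a') * b' * (c * (d * c')) * d' := by rw [(hc ha' hb).eq, (hc hc' hd).eq]
    _ = a * b * ((a' * b') * (c * d)) * c' * d' := by group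
    _ = a * b * ((c * d) * (a' * b')) * c' * d' := by
      rw [(hc (mul_mem ha' hb') (mul_mem hcc hd)).eq]
    _ = a * b * c * d * (a' * b' * c' * d') := by group

/-- coordinates on the core -/
def coord : Multiplicative V4 →* G where
  toFun v := coordFun F (Multiplicative.toAdd v)
  map_one' := by simp [coordFun]
  map_mul' u v := coordFun_add F _ _

/-- translation -/
def co (v : V4) : G := coord F (Multiplicative.ofAdd v)

theorem co_def (v : V4) : co F v =
    dOne F ^ (v 0).val * dTwo F ^ (v 1).val * iOne F ^ (v 2).val * iTwo F ^ (v 3).val := rfl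

theorem co_add (u v : V4) : co F (u + v) = co F u * co F v := by simp [co, ofAdd_add]

theorem co_zero : co F 0 = 1 := by simp [co]

theorem co_neg (v : V4) : co F (-v) = (co F v)⁻¹ := by simp [co, ofAdd_neg]

theorem co_smul (c : ZMod 3) (v : V4) : co F (c • v) = co F v ^ c.val := by
  rcases (by decide +kernel : ∀ c : ZMod 3, c = 0 ∨ c = 1 ∨ c = 1 + 1) c with rfl | rfl | rfl
  · simp [co_zero]
  · simp [ZMod.val_one]
  · rw [add_smul, one_smul, co_add, show ((1 + 1 : ZMod 3)).val = 2 from rfl, pow_two]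

theorem co_mem (v : V4) : co F v ∈ coreSub F :=
  mul_mem (mul_mem (mul_mem (pow_mem (dOne_mem F) _) (pow_mem (dTwo_mem F) _))
    (pow_mem (iOne_mem F) _)) (pow_mem (iTwo_mem F) _)

theorem co_basis : co F d1V = dOne F ∧ co F d2V = dTwo F ∧ co F i1V = iOne F ∧
    co F i2V = iTwo F := by
  refine ⟨?_, ?_, ?_, ?_⟩ <;>
    simp [co_def, d1V, d2V, i1V, i2V, ZMod.val_one]

theorem co_pow (v : V4) (n : ℕ) : co F v ^ n = co F ((n : ZMod 3) • v) := by
  induction n with
  | zero => simp [co_zero]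
  | succ n ih => rw [pow_succ, ih, Nat.cast_succ, add_smul, one_smul, co_add]

/-- conjugation by `g` is given by `m` on coordinates -/
def Conj (m : M4) (g : G) : Prop := ∀ v : V4, g * co F v * g⁻¹ = co F (app m v)

/-- column of a matrix -/
def col (m : M4) (k : Fin 4) : V4 := fun r => m r k

theorem app_col (m : M4) (v : V4) :
    app m v = v 0 • col m 0 + v 1 • col m 1 + v 2 • col m 2 + v 3 • col m 3 := by
  funext r; simp [app, col, mul_comm]

theorem conj_of_cols {m : M4} {g : G} (h0 : g * dOne F * g⁻¹ = co F (col m 0))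
    (h1 : g * dTwo F * g⁻¹ = co F (col m 1)) (h2 : g * iOne F * g⁻¹ = co F (col m 2))
    (h3 : g * iTwo F * g⁻¹ = co F (col m 3)) : Conj F m g := by
  intro v
  rw [app_col, co_add, co_add, co_add, co_smul, co_smul, co_smul, co_smul, ← h0, ← h1, ← h2, ← h3,
    conj_pow, conj_pow, conj_pow, conj_pow, co_def]
  group

theorem conj_comp {m n : M4} {g h : G} (hg : Conj F m g) (hh : Conj F n h) :
    Conj F (m * n) (g * h) := fun v => by
  rw [app_mul, ← hg, ← hh]; group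

theorem conj_one : Conj F 1 1 := fun v => by simp [app_one]

theorem sTau_s : (F.s * F.tau) * F.s * (F.s * F.tau)⁻¹ = F.s * F.z := by
  rw [invol_inv_eq (stau_sq F),
    show F.s * F.tau * F.s * (F.s * F.tau) = F.s * F.tau * (F.s * F.s) * F.tau by group, F.s_sq,
    mul_one, mul_assoc, F.tau_sq]

theorem s_dOne : F.s * dOne F * F.s⁻¹ = dOne F := F.s_mu _ _

theorem s_dTwo : F.s * dTwo F * F.s⁻¹ = (dTwo F)⁻¹ := by
  rw [dTwo, F.s_mu, ← map_inv, Prod.inv_mk, inv_inv]

theorem z_dOne : F.z * dOne F * F.z⁻¹ = dOne F := by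
  rw [← pSub_z F (axis_one F).d_mem, mul_inv_cancel_right]

theorem z_dTwo : F.z * dTwo F * F.z⁻¹ = dTwo F := by
  rw [← pSub_z F (axis_two F).d_mem, mul_inv_cancel_right]

theorem e_inv_z : F.e⁻¹ * F.z * F.e = F.s * F.z := by
  have h : F.e * (F.s * F.z) * F.e⁻¹ = F.z :=
    calc F.e * (F.s * F.z) * F.e⁻¹ = (F.e * F.s * F.e⁻¹) * (F.e * F.z * F.e⁻¹) := by group
      _ = F.s * F.z * F.s := by rw [F.e_s, F.e_z]
      _ = F.z := by rw [s_z, mul_assoc, F.s_sq, mul_one]
  conv_lhs => rw [← h]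
  group

theorem sz_dTwo : (F.s * F.z) * dTwo F * (F.s * F.z)⁻¹ = (dTwo F)⁻¹ := by
  rw [show F.s * F.z * dTwo F * (F.s * F.z)⁻¹ = F.s * (F.z * dTwo F * F.z⁻¹) * F.s⁻¹ by group,
    z_dTwo, s_dTwo]

theorem z_iOne : F.z * iOne F * F.z⁻¹ = (iOne F)⁻¹ := by
  calc F.z * iOne F * F.z⁻¹
      = F.e * ((F.e⁻¹ * F.z * F.e) * dTwo F * (F.e⁻¹ * F.z * F.e)⁻¹) * F.e⁻¹ := by
        rw [iOne]; group
    _ = (iOne F)⁻¹ := by rw [e_inv_z, sz_dTwo, iOne]; group

theorem s_iOne : F.s * iOne F * F.s⁻¹ = iOne F := by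
  calc F.s * iOne F * F.s⁻¹
      = F.e * ((F.e⁻¹ * F.s * F.e) * dTwo F * (F.e⁻¹ * F.s * F.e)⁻¹) * F.e⁻¹ := by
        rw [iOne]; group
    _ = F.e * (F.z * dTwo F * F.z⁻¹) * F.e⁻¹ := by
        rw [show F.e⁻¹ * F.s * F.e = F.z by rw [← F.e_z]; group]
    _ = iOne F := by rw [z_dTwo]; rfl

theorem z_iTwo : F.z * iTwo F * F.z⁻¹ = (iTwo F)⁻¹ := by
  calc F.z * iTwo F * F.z⁻¹
      = (F.z * (F.s * F.tau)) * iOne F * (F.z * (F.s * F.tau))⁻¹ := by rw [iTwo]; group
    _ = (F.s * F.tau) * (F.z * iOne F * F.z⁻¹) * (F.s * F.tau)⁻¹ := by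
        rw [← stau_z]; group
    _ = (iTwo F)⁻¹ := by rw [z_iOne, iTwo]; group

theorem s_iTwo : F.s * iTwo F * F.s⁻¹ = (iTwo F)⁻¹ := by
  have e : F.s * (F.s * F.tau) = (F.s * F.tau) * (F.s * F.z) := by
    have h := sTau_s F
    rw [invol_inv_eq (stau_sq F)] at h
    calc F.s * (F.s * F.tau) = (F.s * F.tau * (F.s * F.tau)) * F.s * (F.s * F.tau) := by
          rw [stau_sq, one_mul]
      _ = (F.s * F.tau) * (F.s * F.tau * F.s * (F.s * F.tau)) := by group
      _ = _ := by rw [h]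
  calc F.s * iTwo F * F.s⁻¹
      = (F.s * (F.s * F.tau)) * iOne F * (F.s * (F.s * F.tau))⁻¹ := by rw [iTwo]; group
    _ = (F.s * F.tau) * (F.s * (F.z * iOne F * F.z⁻¹) * F.s⁻¹) * (F.s * F.tau)⁻¹ := by
        rw [e]; group
    _ = (iTwo F)⁻¹ := by
        rw [z_iOne, show F.s * (iOne F)⁻¹ * F.s⁻¹ = (F.s * iOne F * F.s⁻¹)⁻¹ by group, s_iOne,
          iTwo]; group

theorem cols_eq : col zMat 0 = d1V ∧ col zMat 1 = d2V ∧ col zMat 2 = -i1V ∧ col zMat 3 = -i2V ∧
    col sMat 0 = d1V ∧ col sMat 1 = -d2V ∧ col sMat 2 = i1V ∧ col sMat 3 = -i2V ∧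
    col spMat 0 = -d1V ∧ col spMat 1 = d2V ∧ col spMat 2 = i2V ∧ col spMat 3 = i1V := by
  decide +kernel

theorem conj_z : Conj F zMat F.z := by
  obtain ⟨c0, c1, c2, c3, -⟩ := cols_eq
  obtain ⟨b0, b1, b2, b3⟩ := co_basis F
  refine conj_of_cols F ?_ ?_ ?_ ?_
  · rw [c0, b0, z_dOne]
  · rw [c1, b1, z_dTwo]
  · rw [c2, co_neg, b2, z_iOne]
  · rw [c3, co_neg, b3, z_iTwo]

theorem conj_s : Conj F sMat F.s := by
  obtain ⟨-, -, -, -, c0, c1, c2, c3, -⟩ := cols_eq
  obtain ⟨b0, b1, b2, b3⟩ := co_basis F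
  refine conj_of_cols F ?_ ?_ ?_ ?_
  · rw [c0, b0, s_dOne]
  · rw [c1, co_neg, b1, s_dTwo]
  · rw [c2, b2, s_iOne]
  · rw [c3, co_neg, b3, s_iTwo]

theorem conj_sp : Conj F spMat (F.s * F.tau) := by
  obtain ⟨-, -, -, -, -, -, -, -, c0, c1, c2, c3⟩ := cols_eq
  obtain ⟨b0, b1, b2, b3⟩ := co_basis F
  refine conj_of_cols F ?_ ?_ ?_ ?_
  · rw [c0, co_neg, b0, show F.s * F.tau * dOne F * (F.s * F.tau)⁻¹ =
      F.s * (F.tau * dOne F * F.tau⁻¹) * F.s⁻¹ by group, dOne, F.tau_mu, F.s_mu, ← map_inv,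
      Prod.inv_mk, show dlt sX = sX⁻¹ by decide +kernel]
  · rw [c1, b1, show F.s * F.tau * dTwo F * (F.s * F.tau)⁻¹ =
      F.s * (F.tau * dTwo F * F.tau⁻¹) * F.s⁻¹ by group, dTwo, F.tau_mu, F.s_mu,
      show dlt sX = sX⁻¹ by decide +kernel, show dlt sX⁻¹ = sX by decide +kernel]
  · rw [c2, b3]; rfl
  · rw [c3, b2, iTwo,
      show F.s * F.tau * (F.s * F.tau * iOne F * (F.s * F.tau)⁻¹) * (F.s * F.tau)⁻¹ =
        (F.s * F.tau * (F.s * F.tau)) * iOne F * (F.s * F.tau * (F.s * F.tau))⁻¹ by group,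
      stau_sq]
    group

theorem conj_tau : Conj F tauMat F.tau := by
  rw [← invol_mats.2.2.2]
  have h := conj_comp F (conj_s F) (conj_sp F)
  rwa [← mul_assoc, F.s_sq, one_mul] at h

theorem coord_x : co F xV = F.mu (sX, 1) ∧ co F yV = F.mu (1, sX) := by
  constructor <;>
  · rw [co_def]
    simp only [xV, yV, Matrix.cons_val_zero, Matrix.cons_val_one, Matrix.cons_val,
      ZMod.val_zero, ZMod.val_one, pow_zero, mul_one, show ((2 : ZMod 3)).val = 2 from rfl,
      dOne, dTwo, ← map_pow, ← map_mul, pow_one]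
    exact (mu_eq F).mpr (by decide +kernel)

theorem iOne_ne : iOne F ≠ 1 := fun h => (axis_two F).d_ne (conj_eq_one_iff.mp h)

theorem iTwo_ne : iTwo F ≠ 1 := fun h => iOne_ne F (conj_eq_one_iff.mp h)

theorem co_fst_ne : ∀ a b : ZMod 3, SgnEq ((sX, sX) ^ a.val * (sX, sX⁻¹) ^ b.val) 1 →
    a = 0 ∧ b = 0 := by decide +kernel

theorem co_eq_one {v : V4} (h : co F v = 1) : v = 0 := by
  have hc : ∀ m g, Conj F m g → co F (app m v) = 1 := fun m g hg => by rw [← hg v, h]; group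
  obtain ⟨a, b, c, d, rfl⟩ := vec_cases v
  have h1 : co F (![a, b, c, d] + app zMat ![a, b, c, d]) = 1 := by
    rw [co_add, h, hc _ _ (conj_z F), one_mul]
  rw [show ![a, b, c, d] + app zMat ![a, b, c, d] = (![2 * a, 2 * b, 0, 0] : V4) by
    funext r; fin_cases r <;> simp [app, zMat] <;> ring] at h1
  obtain ⟨ha, hb⟩ : a = 0 ∧ b = 0 := by
    have h2 : F.mu ((sX, sX) ^ (2 * a).val * (sX, sX⁻¹) ^ (2 * b).val) = 1 := by
      rw [map_mul, map_pow, map_pow]; simpa [co_def, dOne, dTwo] using h1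
    rw [← map_one F.mu, mu_eq] at h2
    obtain ⟨e1, e2⟩ := co_fst_ne _ _ h2
    exact (by decide +kernel : ∀ a b : ZMod 3, 2 * a = 0 → 2 * b = 0 → a = 0 ∧ b = 0) a b e1 e2
  subst ha hb
  have h3 : co F (![0, 0, c, d] + app sMat ![0, 0, c, d]) = 1 := by
    rw [co_add, h, hc _ _ (conj_s F), one_mul]
  rw [show ![0, 0, c, d] + app sMat ![0, 0, c, d] = (![0, 0, 2 * c, 0] : V4) by
    funext r; fin_cases r <;> simp [app, sMat] <;> ring] at h3
  have kill : ∀ (g : G) (t : ZMod 3), g ^ 3 = 1 → g ≠ 1 → g ^ t.val = 1 → t = 0 := by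
    intro g t h3 h1 ht
    rcases (by decide +kernel : ∀ c : ZMod 3, c.val = 0 ∨ c.val = 1 ∨ c.val = 2) t with e | e | e
    · exact (ZMod.val_eq_zero t).mp e
    · rw [e, pow_one] at ht; exact absurd ht h1
    · rw [e] at ht
      rw [pow_succ, ht, one_mul] at h3
      exact absurd h3 h1
  have hc0 : c = 0 := by
    have : iOne F ^ (2 * c).val = 1 := by simpa [co_def] using h3
    exact (by decide +kernel : ∀ c : ZMod 3, 2 * c = 0 → c = 0) c
      (kill _ _ (iOne_cube F) (iOne_ne F) this)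
  subst hc0
  have hd : iTwo F ^ d.val = 1 := by simpa [co_def] using h
  rw [kill _ _ (iTwo_cube F) (iTwo_ne F) hd]
  funext r; fin_cases r <;> rfl

theorem co_inj {u v : V4} (h : co F u = co F v) : u = v :=
  sub_eq_zero.mp (co_eq_one F (by rw [sub_eq_add_neg, co_add, co_neg, h, mul_inv_cancel]))

theorem coord_injective : Function.Injective (coord F) := fun u v h =>
  Multiplicative.toAdd.injective (co_inj F (u := Multiplicative.toAdd u) h)

/-- `e i₁ e⁻¹` is `i₂` up to inversion -/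
theorem e_iOne : ∃ b : ZMod 3, b * b = 1 ∧ F.e * iOne F * F.e⁻¹ = co F (b • i2V) := by
  have hfix : (F.s * F.z) * iTwo F * (F.s * F.z)⁻¹ = iTwo F := by
    rw [show F.s * F.z * iTwo F * (F.s * F.z)⁻¹ = F.s * (F.z * iTwo F * F.z⁻¹) * F.s⁻¹ by group,
      z_iTwo, show F.s * (iTwo F)⁻¹ * F.s⁻¹ = (F.s * iTwo F * F.s⁻¹)⁻¹ by group, s_iTwo, inv_inv]
  have hm := (axis_one F).fix_vz (core_comm F (iTwo_mem F) (dOne_mem F)) hfix
    ((by decide : Odd 3).of_dvd_nat (orderOf_dvd_of_pow_eq_one (iTwo_cube F)))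
  obtain ⟨i, j, hij⟩ := (mem_pSub F).mp hm
  obtain ⟨a, b, hab⟩ : ∃ a b : ZMod 3,
      (F.e * F.e)⁻¹ * iTwo F * (F.e * F.e) = dOne F ^ a.val * dTwo F ^ b.val := by
    rw [hij, pEl]
    obtain ⟨a, b, h⟩ := (by decide +kernel : ∀ i j : Fin 3, ∃ a b : ZMod 3,
      SgnEq (sX ^ i.val, sX ^ j.val) ((sX, sX) ^ a.val * (sX, sX⁻¹) ^ b.val)) i j
    exact ⟨a, b, by rw [(mu_eq F).mpr h, map_mul, map_pow, map_pow]; rfl⟩
  obtain ⟨w, hw⟩ : ∃ w, w = F.e * iOne F * F.e⁻¹ := ⟨_, rfl⟩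
  have hwz : F.z * w * F.z⁻¹ = w⁻¹ := by
    calc F.z * w * F.z⁻¹
        = F.e * ((F.e⁻¹ * F.z * F.e) * iOne F * (F.e⁻¹ * F.z * F.e)⁻¹) * F.e⁻¹ := by
          rw [hw]; group
      _ = F.e * (F.s * (F.z * iOne F * F.z⁻¹) * F.s⁻¹) * F.e⁻¹ := by rw [e_inv_z]; group
      _ = w⁻¹ := by
          rw [z_iOne, show F.s * (iOne F)⁻¹ * F.s⁻¹ = (F.s * iOne F * F.s⁻¹)⁻¹ by group, s_iOne,
            hw]
          group
  have hed : ∀ n : ℕ, (F.e * F.e) * dOne F ^ n * (F.e * F.e)⁻¹ = dOne F ^ n := fun n => by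
    have h : Commute (F.e * F.e) (dOne F) :=
      (show Commute F.e (dOne F) from F.e_d1).mul_left F.e_d1
    rw [(h.pow_right n).eq, mul_inv_cancel_right]
  have hi2 : iTwo F = dOne F ^ a.val * w ^ b.val := by
    calc iTwo F = (F.e * F.e) * ((F.e * F.e)⁻¹ * iTwo F * (F.e * F.e)) * (F.e * F.e)⁻¹ := by group
      _ = ((F.e * F.e) * dOne F ^ a.val * (F.e * F.e)⁻¹) *
          ((F.e * F.e) * dTwo F ^ b.val * (F.e * F.e)⁻¹) := by rw [hab]; group
      _ = dOne F ^ a.val * w ^ b.val := by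
          rw [hed, ← conj_pow, show F.e * F.e * dTwo F * (F.e * F.e)⁻¹ = w by
            rw [hw, iOne]; group]
  have ha : a = 0 := by
    have hwc : w ∈ coreSub F := hw ▸ core_conj_e F (iOne_mem F)
    have h1 := z_iTwo F
    rw [hi2, show F.z * (dOne F ^ a.val * w ^ b.val) * F.z⁻¹ =
      (F.z * dOne F ^ a.val * F.z⁻¹) * (F.z * w ^ b.val * F.z⁻¹) by group, ← conj_pow,
      ← conj_pow, hwz, z_dOne, inv_pow, mul_inv_rev,
      core_comm F (inv_mem (pow_mem hwc _)) (inv_mem (pow_mem (dOne_mem F) _))] at h1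
    have h2 : dOne F ^ a.val * dOne F ^ a.val = 1 := by
      have := mul_right_cancel h1
      rwa [eq_inv_iff_mul_eq_one] at this
    have h3 : co F ((a + a) • d1V) = 1 := by
      rw [co_smul, (co_basis F).1, pow_val_add (dOne_cube F), h2]
    exact (by decide +kernel : ∀ a : ZMod 3, (a + a) • d1V = (0 : V4) → a = 0) a (co_eq_one F h3)
  subst ha
  rw [ZMod.val_zero, pow_zero, one_mul] at hi2
  rcases (by decide +kernel : ∀ c : ZMod 3, c = 0 ∨ c = 1 ∨ c = 2) b with rfl | rfl | rfl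
  · rw [ZMod.val_zero, pow_zero] at hi2; exact absurd hi2 (iTwo_ne F)
  · rw [ZMod.val_one, pow_one] at hi2
    exact ⟨1, by decide +kernel, by rw [one_smul, (co_basis F).2.2.2, hi2, hw]⟩
  · rw [show ((2 : ZMod 3)).val = 2 from rfl] at hi2
    refine ⟨2, by decide +kernel, ?_⟩
    rw [co_smul, (co_basis F).2.2.2, show ((2 : ZMod 3)).val = 2 from rfl, hi2, ← pow_mul, ← hw]
    have : w ^ 3 = 1 := by rw [hw, conj_pow, iOne_cube]; group
    rw [show 2 * 2 = 3 + 1 from rfl, pow_succ, this, one_mul]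

/-- matrix of `e` for the two possible signs -/
def eSign (b : ZMod 3) : M4 := !![1, 0, 0, 0; 0, 0, 0, b; 0, 1, 0, 0; 0, 0, b, 0]

theorem conj_e : ∃ b : ZMod 3, b * b = 1 ∧ Conj F (eSign b) F.e := by
  obtain ⟨b, hb, he⟩ := e_iOne F
  obtain ⟨b0, b1, b2, b3⟩ := co_basis F
  refine ⟨b, hb, ?_⟩
  obtain ⟨c0, c1, c2, c3⟩ := (by decide +kernel : ∀ b : ZMod 3, col (eSign b) 0 = d1V ∧
    col (eSign b) 1 = i1V ∧ col (eSign b) 2 = b • i2V ∧ col (eSign b) 3 = b • d2V) b
  refine conj_of_cols F ?_ ?_ ?_ ?_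
  · rw [c0, b0, show F.e * dOne F = dOne F * F.e from F.e_d1, mul_inv_cancel_right]
  · rw [c1, b2]; rfl
  · rw [c2, he]
  · have hi2 : iTwo F = (F.e * iOne F * F.e⁻¹) ^ b.val := by
      rw [he, co_pow, smul_smul, ZMod.natCast_zmod_val, hb, one_smul, b3]
    rw [c3, co_smul, b1, hi2, ← conj_pow]
    congr 1
    have e3 : F.e * F.e * F.e = 1 := by rw [← pow_three']; exact F.e_cube
    calc F.e * (F.e * iOne F * F.e⁻¹) * F.e⁻¹ =
        (F.e * F.e * F.e) * dTwo F * (F.e * F.e * F.e)⁻¹ := by rw [iOne]; group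
      _ = dTwo F := by rw [e3]; group

theorem core_le_range {g : G} (hg : g ∈ coreSub F) : ∃ v, g = co F v := by
  obtain ⟨b, hb, he⟩ := conj_e F
  have hP : ∀ p ∈ pSub F, ∃ v, p = co F v := by
    intro p hp
    obtain ⟨i, j, rfl⟩ := (mem_pSub F).mp hp
    refine ⟨(i.val : ZMod 3) • xV + (j.val : ZMod 3) • yV, ?_⟩
    rw [co_add, ← co_pow, ← co_pow, (coord_x F).1, (coord_x F).2, pEl, ← map_pow, ← map_pow,
      ← map_mul, Prod.pow_def, Prod.pow_def, Prod.mk_mul_mk, one_pow, one_pow, mul_one, one_mul]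
  rw [core_eq_one F] at hg
  induction hg using Subgroup.closure_induction with
  | mem x hx =>
    rcases hx with h | h | h
    · exact hP x h
    · obtain ⟨v, hv⟩ := hP _ h
      exact ⟨app (eSign b) v, by rw [← he v, ← hv]; group⟩
    · obtain ⟨v, hv⟩ := hP _ h
      refine ⟨app (eSign b) (app (eSign b) v), ?_⟩
      rw [← he, ← he, ← hv]
      generalize hE : F.e * F.e = f
      calc x = f * (f⁻¹ * x * f) * f⁻¹ := by group
        _ = _ := by rw [← hE]; group
  | one => exact ⟨0, (co_zero F).symm⟩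
  | mul x y _ _ hx hy =>
    obtain ⟨u, rfl⟩ := hx
    obtain ⟨v, rfl⟩ := hy
    exact ⟨u + v, (co_add F u v).symm⟩
  | inv x _ hx =>
    obtain ⟨u, rfl⟩ := hx
    exact ⟨-u, (co_neg F u).symm⟩

theorem co_cent {g : G} (h : ∀ v, g * co F v = co F v * g) : ∃ v, g = co F v := by
  refine core_le_range F ?_
  have hg : g ∈ cZero F := by
    refine (mem_cZero F).mpr fun p hp => ?_
    obtain ⟨v, rfl⟩ := core_le_range F ((coreSub_spec F).pSub_le hp)
    exact (h v).symm
  rcases (coreSub_spec F).2.2.2 g hg with h1 | h1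
  · exact h1
  · exfalso
    have h2 := core_comm F h1 (iOne_mem F)
    have h3 : g * iOne F = iOne F * g := by
      have := h i1V; rwa [(co_basis F).2.2.1] at this
    have h4 : F.z * iOne F = iOne F * F.z := by
      rw [← mul_assoc, ← h3, mul_assoc, mul_assoc] at h2
      exact mul_left_cancel h2
    have h5 := z_iOne F
    rw [h4, mul_inv_cancel_right, eq_inv_iff_mul_eq_one] at h5
    have h6 := iOne_cube F
    rw [pow_succ, pow_two, h5, one_mul] at h6
    exact iOne_ne F h6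

/-- `e'` acts on `A` -/
theorem conj_e' : ∃ m : M4, InL m ∧ Conj F m F.e' ∧ ∃ k : M4, InL k ∧
    (∃ g, Conj F k g ∧ (g = 1 ∨ g = F.z ∨ g = F.s * F.tau ∨ g = F.s * F.tau * F.z)) ∧
    m * k = mE := by
  have hcol : ∀ v, ∃ w, F.e' * co F v * F.e'⁻¹ = co F w := fun v =>
    core_le_range F (core_conj_e' F (co_mem F v))
  choose f hf using hcol
  obtain ⟨m, hmdef⟩ : ∃ m : M4, m = Matrix.of fun r k =>
      f ((![d1V, d2V, i1V, i2V] : Fin 4 → V4) k) r := ⟨_, rfl⟩
  obtain ⟨b0, b1, b2, b3⟩ := co_basis F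
  have hm : Conj F m F.e' := by
    refine conj_of_cols F ?_ ?_ ?_ ?_
    · rw [show col m 0 = f d1V by rw [hmdef]; rfl, ← hf, b0]
    · rw [show col m 1 = f d2V by rw [hmdef]; rfl, ← hf, b1]
    · rw [show col m 2 = f i1V by rw [hmdef]; rfl, ← hf, b2]
    · rw [show col m 3 = f i2V by rw [hmdef]; rfl, ← hf, b3]
  have huniq : ∀ {n n' : M4} {g : G}, Conj F n g → Conj F n' g → n = n' := fun h h' =>
    app_injective fun v => co_inj F (by rw [← h v, ← h' v])
  have r1 : m * zMat = spMat * m := huniq (conj_comp F hm (conj_z F))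
    (mul_inv_eq_iff_eq_mul.mp F.e'_z ▸ conj_comp F (conj_sp F) hm)
  have r2 : m * spMat = (spMat * zMat) * m := huniq (conj_comp F hm (conj_sp F))
    (mul_inv_eq_iff_eq_mul.mp F.e'_s ▸ conj_comp F (conj_comp F (conj_sp F) (conj_z F)) hm)
  have r3 : app m d2V = d2V := co_inj F (by
    rw [← hm d2V, b1]
    exact mul_inv_eq_iff_eq_mul.mpr F.e'_d2)
  have r4 : m * m * m = 1 := huniq (conj_comp F (conj_comp F hm hm) hm)
    (by rw [← pow_three', F.e'_cube]; exact conj_one F)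
  have appb : ∀ k, app m ((![d1V, d2V, i1V, i2V] : Fin 4 → V4) k) = col m k := by
    intro k; funext r; fin_cases k <;> simp [app, col, d1V, d2V, i1V, i2V]
  -- the columns
  have u0 : app spMat (app m d1V) = app m d1V := by
    rw [← app_mul, ← r1, app_mul, show app zMat d1V = d1V by decide +kernel]
  have u0' : app (spMat * zMat) (app m d1V) = -app m d1V := by
    rw [← app_mul, ← r2, app_mul, show app spMat d1V = -d1V by decide +kernel, app_neg]
  have u2 : app spMat (app m i1V) = -app m i1V := by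
    rw [← app_mul, ← r1, app_mul, show app zMat i1V = -i1V by decide +kernel, app_neg]
  have u3 : app (spMat * zMat) (app m i1V) = app m i2V := by
    rw [← app_mul, ← r2, app_mul, show app spMat i1V = i2V by decide +kernel]
  obtain ⟨a, b, c, d, e0⟩ := vec_cases (app m d1V)
  rw [e0] at u0 u0'
  rw [colZero_shape a b c d u0 u0'] at e0
  obtain ⟨p, b', q, d', e2⟩ := vec_cases (app m i1V)
  rw [e2] at u2 u3
  obtain ⟨s1, s2⟩ := colTwo_shape p b' q d' u2
  rw [s1] at e2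
  rw [s2] at u3
  have hshape : m = shapeE c p q := by
    ext r k
    have h := congr_fun (appb k) r
    fin_cases k
    · have := h.symm.trans (congr_fun e0 r); revert this
      fin_cases r <;> simp [col, shapeE]
    · have := h.symm.trans (congr_fun r3 r); revert this
      fin_cases r <;> simp [col, shapeE, d2V]
    · have := h.symm.trans (congr_fun e2 r); revert this
      fin_cases r <;> simp [col, shapeE]
    · have := h.symm.trans (congr_fun u3.symm r); revert this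
      fin_cases r <;> simp [col, shapeE]
  subst hshape
  have hcases := shapeE_cases c p q r4
  obtain ⟨iz, isp, ispz, -⟩ := invol_mats
  rcases hcases with h | h | h | h
  · have e := h
    exact ⟨_, e ▸ inL_mE, hm, 1, inL_one, ⟨1, conj_one F, Or.inl rfl⟩, by rw [mul_one, e]⟩
  · have e := h
    exact ⟨_, e ▸ InL_mul inL_mE inL_z, hm, zMat, inL_z, ⟨_, conj_z F, Or.inr (Or.inl rfl)⟩,
      by rw [e, mul_assoc, iz, mul_one]⟩
  · have e := h
    exact ⟨_, e ▸ InL_mul inL_mE inL_sp, hm, spMat, inL_sp,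
      ⟨_, conj_sp F, Or.inr (Or.inr (Or.inl rfl))⟩, by rw [e, mul_assoc, isp, mul_one]⟩
  · have e := h
    exact ⟨_, e ▸ InL_mul inL_mE (InL_mul inL_sp inL_z), hm, spMat * zMat, InL_mul inL_sp inL_z,
      ⟨_, conj_comp F (conj_sp F) (conj_z F), Or.inr (Or.inr (Or.inr rfl))⟩,
      by rw [e, mul_assoc, ispz, mul_one]⟩

/-- elements acting as `L` -/
def lSub : Subgroup G where
  carrier := {g | ∃ m, InL m ∧ Conj F m g}
  one_mem' := ⟨1, inL_one, conj_one F⟩
  mul_mem' := fun ⟨m, hm, hg⟩ ⟨n, hn, hh⟩ => ⟨m * n, InL_mul hm hn, conj_comp F hg hh⟩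
  inv_mem' := fun {g} ⟨m, hm, hg⟩ => by
    obtain ⟨n, hn, -, hmn⟩ := InL_inv hm
    refine ⟨n, hn, fun v => ?_⟩
    have h := hg (app n v)
    rw [← app_mul, hmn, app_one] at h
    rw [← h]; group

theorem e_mem : F.e ∈ lSub F := by
  obtain ⟨b, hb, he⟩ := conj_e F
  refine ⟨eSign b, ?_, he⟩
  rcases (by decide +kernel : ∀ b : ZMod 3, b * b = 1 →
      eSign b = eMat ∨ eSign b = eMat * zMat) b hb with h | h
  · rw [h]; exact inL_eMat
  · rw [h]; exact InL_mul inL_eMat inL_z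

theorem e'_mem : F.e' ∈ lSub F := by
  obtain ⟨m, hm, hc, -⟩ := conj_e' F
  exact ⟨m, hm, hc⟩

theorem lSub_surj {m : M4} (hm : InL m) : ∃ g ∈ lSub F, Conj F m g := by
  let P : M4 → Prop := fun m => InL m ∧ ∃ g, Conj F m g
  suffices P m by
    obtain ⟨h, g, hg⟩ := this
    exact ⟨g, ⟨m, h, hg⟩, hg⟩
  refine InL_of_axes (P := P) ⟨inL_one, 1, conj_one F⟩
    (fun a b ha hb => ⟨InL_mul ha.1 hb.1, _, conj_comp F ha.2.choose_spec hb.2.choose_spec⟩)
    ⟨inL_z, _, conj_z F⟩ ⟨inL_s, _, conj_s F⟩ ⟨inL_sp, _, conj_sp F⟩ ?_ ?_ hm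
  · refine ⟨inL_eMat, ?_⟩
    obtain ⟨b, hb, he⟩ := conj_e F
    rcases (by decide +kernel : ∀ b : ZMod 3, b * b = 1 →
        eSign b = eMat ∨ eSign b * zMat = eMat) b hb with h | h
    · exact ⟨F.e, h ▸ he⟩
    · exact ⟨F.e * F.z, h ▸ conj_comp F he (conj_z F)⟩
  · refine ⟨inL_mE, ?_⟩
    obtain ⟨m, -, hm', k, -, ⟨g, hg, -⟩, e⟩ := conj_e' F
    exact ⟨F.e' * g, e ▸ conj_comp F hm' hg⟩

theorem co_four (v : V4) (h : qA v ≠ 0) : ∃ a b : G, a * a = 1 ∧ b * b = 1 ∧ a ≠ 1 ∧ b ≠ 1 ∧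
    a ≠ b ∧ a * b = b * a ∧ a * co F v = co F v * a ∧ b * co F v = co F v * b := by
  obtain ⟨m, hm, hmv⟩ := nonsing_orbit h
  obtain ⟨g, -, hg⟩ := lSub_surj F hm
  have base : ∀ (w : V4) (u : G), u * u = 1 → u ≠ 1 → u ≠ F.z → u * F.z = F.z * u →
      Commute (co F w) F.z → Commute (co F w) u →
      ∃ a b : G, a * a = 1 ∧ b * b = 1 ∧ a ≠ 1 ∧ b ≠ 1 ∧ a ≠ b ∧ a * b = b * a ∧
        a * co F (app m w) = co F (app m w) * a ∧ b * co F (app m w) = co F (app m w) * b := by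
    intro w u hu hu1 huz huc hcz hcu
    refine ⟨g * F.z * g⁻¹, g * u * g⁻¹, ?_, ?_, fun e => F.z_ne (conj_eq_one_iff.mp e),
      fun e => hu1 (conj_eq_one_iff.mp e), fun e => huz (mul_left_cancel (mul_right_cancel e)).symm,
      ?_, ?_, ?_⟩
    · rw [show g * F.z * g⁻¹ * (g * F.z * g⁻¹) = g * (F.z * F.z) * g⁻¹ by group, z_sq]; group
    · rw [show g * u * g⁻¹ * (g * u * g⁻¹) = g * (u * u) * g⁻¹ by group, hu]; group
    · rw [show g * F.z * g⁻¹ * (g * u * g⁻¹) = g * (F.z * u) * g⁻¹ by group, ← huc]; group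
    · rw [← hg w, show g * F.z * g⁻¹ * (g * co F w * g⁻¹) = g * (F.z * co F w) * g⁻¹ by group,
        ← hcz.eq]; group
    · rw [← hg w, show g * u * g⁻¹ * (g * co F w * g⁻¹) = g * (u * co F w) * g⁻¹ by group,
        ← hcu.eq]; group
  have hs1 : F.s ≠ 1 := fun e => by
    have h2 := F.e_s
    rw [e, mul_one, mul_inv_cancel, one_mul] at h2
    exact F.z_ne h2.symm
  have hsz : F.s ≠ F.z := fun e => by
    have h1 := F.e_z
    have h2 := F.e_s
    rw [e] at h1 h2
    rw [h1, z_sq] at h2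
    exact F.z_ne h2
  rcases hmv with rfl | rfl
  · refine base d1V F.s F.s_sq hs1 hsz (s_z F) ?_ ?_
    · rw [(co_basis F).1]; exact z_mu F _
    · rw [(co_basis F).1]; exact (mul_inv_eq_iff_eq_mul.mp (s_dOne F)).symm
  · have h1 : F.s * F.tau ≠ 1 := fun e => by
      have h2 := F.e'_z
      rw [e] at h2
      exact F.z_ne (conj_eq_one_iff.mp h2)
    have h2 : F.s * F.tau ≠ F.z := fun e => by
      have h3 := F.e'_z
      have h4 := F.e'_s
      rw [e] at h3 h4
      rw [h3, z_sq] at h4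
      exact F.z_ne h4
    refine base d2V (F.s * F.tau) (stau_sq F) h1 h2 (stau_z F) ?_ ?_
    · rw [(co_basis F).2.1]; exact z_mu F _
    · rw [(co_basis F).2.1]
      have h := conj_sp F d2V
      rw [show app spMat d2V = d2V by decide +kernel, (co_basis F).2.1] at h
      exact (mul_inv_eq_iff_eq_mul.mp h).symm

/-- the interface -/
noncomputable def aDat : ADat F where
  alpha := coord F
  alpha_inj := coord_injective F
  a_x := (coord_x F).1
  a_y := (coord_x F).2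
  z_act := conj_z F
  s_act := conj_s F
  tau_act := conj_tau F
  cent g h := by
    obtain ⟨v, rfl⟩ := co_cent F h
    exact ⟨_, rfl⟩
  four := co_four F

end H63.UFour
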