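import Cfsg.Agent.H63.UFour.ThreeCore

/-!
# The elementary abelian normal 2-complement of `C(P₀)`
-/

set_option autoImplicit false

namespace H63.UFour

open H87.U43

variable {G : Type*} [Group G] (F : Frame G)

/-- an element of order three fixing `d` and cycling a four group over `z` -/
structure Axis (d e v : G) : Prop where
  d_mem : d ∈ pSub F
  d_ne : d ≠ 1
  cent : ∀ k : SL2 × SL2, SgnEq (k ^ 3) 1 → F.mu k * d = d * F.mu k → F.mu k ∈ pSub F
  e_cube : e ^ 3 = 1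
  e_d : e * d = d * e
  e_z : e * F.z * e⁻¹ = v
  e_v : e * v * e⁻¹ = v * F.z
  v_sq : v * v = 1
  v_z : v * F.z = F.z * v
  v_norm : ∀ g ∈ pSub F, v * g * v⁻¹ ∈ pSub F

/-- the characterisation of the normal 2-complement -/
def IsCore (O : Subgroup G) : Prop :=
  O ≤ cZero F ∧ Odd (Nat.card O) ∧ (∀ g ∈ cZero F, Odd (orderOf g) → g ∈ O) ∧
    ∀ g ∈ cZero F, g ∈ O ∨ g * F.z ∈ O

theorem orderOf_conj' (g o : G) : orderOf (g * o * g⁻¹) = orderOf o :=
  orderOf_injective (MulAut.conj g).toMonoidHom (MulAut.conj g).injective o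

variable [Finite G] {d e v : G}

theorem core_unique {O O' : Subgroup G} (h : IsCore F O) (h' : IsCore F O') : O = O' :=
  le_antisymm (fun g hg => h'.2.2.1 g (h.1 hg)
      (h.2.1.of_dvd_nat (Subgroup.orderOf_dvd_natCard O hg)))
    (fun g hg => h.2.2.1 g (h'.1 hg) (h'.2.1.of_dvd_nat (Subgroup.orderOf_dvd_natCard O' hg)))

variable {F}

theorem IsCore.norm {O : Subgroup G} (hO : IsCore F O) {g : G}
    (hg : ∀ p ∈ pSub F, g⁻¹ * p * g ∈ pSub F) {o : G} (ho : o ∈ O) : g * o * g⁻¹ ∈ O := by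
  refine hO.2.2.1 _ ?_ ?_
  · refine (mem_cZero F).mpr fun p hp => ?_
    have h := (mem_cZero F).mp (hO.1 ho) _ (hg p hp)
    calc p * (g * o * g⁻¹) = g * ((g⁻¹ * p * g) * o) * g⁻¹ := by group
      _ = g * o * g⁻¹ * p := by rw [h]; group
  · rw [orderOf_conj']; exact hO.2.1.of_dvd_nat (Subgroup.orderOf_dvd_natCard O ho)

theorem IsCore.pSub_le {O : Subgroup G} (hO : IsCore F O) : pSub F ≤ O :=
  fun g hg => hO.2.2.1 g (pSub_le_cZero F hg) (pSub_odd F hg)

theorem IsCore.z_conj {O : Subgroup G} (hO : IsCore F O) {o : G} (ho : o ∈ O) :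
    F.z * o * F.z⁻¹ ∈ O :=
  hO.norm (fun p hp => by rwa [mul_assoc, pSub_z F hp, inv_mul_cancel_left]) ho

theorem IsCore.fix_z {O : Subgroup G} (hO : IsCore F O) {o : G} (ho : o ∈ O)
    (hz : F.z * o * F.z⁻¹ = o) : o ∈ pSub F := by
  have hc : o * F.z = F.z * o := (mul_inv_eq_iff_eq_mul.mp hz).symm
  rcases cZero_cap F (hO.1 ho) hc with h | h
  · exact h
  · have hzO : F.z ∈ O := by
      have := mul_mem (inv_mem ho) (hO.pSub_le h)
      rwa [inv_mul_cancel_left] at this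
    have h2 : orderOf F.z = 2 := orderOf_eq_prime (by rw [pow_two, z_sq]) F.z_ne
    have := hO.2.1.of_dvd_nat (h2 ▸ Subgroup.orderOf_dvd_natCard O hzO)
    exact absurd this (by decide)

/-- commutators in the core lie in `P₀` -/
theorem IsCore.comm_mem {O : Subgroup G} (hO : IsCore F O) {a b : G} (ha : a ∈ O) (hb : b ∈ O) :
    a * b * a⁻¹ * b⁻¹ ∈ pSub F := by
  have hcen : ∀ o ∈ O, ∀ p ∈ pSub F, o * p = p * o :=
    fun o ho p hp => ((mem_cZero F).mp (hO.1 ho) p hp).symm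
  have hB : ∀ o ∈ O, ∀ p ∈ pSub F, o * p * o⁻¹ ∈ pSub F := fun o ho p hp => by
    rw [hcen o ho p hp, mul_inv_cancel_right]; exact hp
  have inv : ∀ o ∈ O, ∃ p ∈ pSub F, F.z * o * F.z⁻¹ = o⁻¹ * p := fun o ho =>
    ⟨_, invert_mod (z_sq F) hO.2.1 (fun _ h => hO.z_conj h) hB (fun _ h => hO.fix_z h) ho,
      by group⟩
  obtain ⟨p, hp, ep⟩ := inv _ (inv_mem ha)
  obtain ⟨q, hq, eq'⟩ := inv _ (inv_mem hb)
  obtain ⟨r, hr, er⟩ := inv _ (mul_mem (inv_mem ha) (inv_mem hb))
  have e : F.z * (a⁻¹ * b⁻¹) * F.z⁻¹ = (F.z * a⁻¹ * F.z⁻¹) * (F.z * b⁻¹ * F.z⁻¹) := by group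
  rw [e, ep, eq', inv_inv, inv_inv, mul_inv_rev, inv_inv, inv_inv] at er
  -- a p b q = b a r
  have h1 : a * b * (p * q) = b * a * r :=
    calc a * b * (p * q) = a * (b * p) * q := by group
      _ = a * p * (b * q) := by rw [hcen b hb p hp]; group
      _ = b * a * r := er
  have h2 : a * b = b * a * (r * (p * q)⁻¹) := by
    rw [← mul_assoc, ← h1, mul_inv_cancel_right]
  have hm : r * (p * q)⁻¹ ∈ pSub F := mul_mem hr (inv_mem (mul_mem hp hq))
  rw [h2, show b * a * (r * (p * q)⁻¹) * a⁻¹ * b⁻¹ =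
    (b * a) * (r * (p * q)⁻¹) * (b * a)⁻¹ by group]
  exact hB _ (mul_mem hb ha) _ hm

namespace Axis

theorem fix_v (X : Axis F d e v) {o : G} (hd : o * d = d * o) (hv : v * o * v⁻¹ = o)
    (ho : Odd (orderOf o)) : e⁻¹ * o * e ∈ pSub F := by
  have hz : e⁻¹ * o * e * F.z = F.z * (e⁻¹ * o * e) := by
    have h : v * o = o * v := mul_inv_eq_iff_eq_mul.mp hv
    rw [← X.e_z] at h
    calc e⁻¹ * o * e * F.z = e⁻¹ * (o * (e * F.z * e⁻¹)) * e := by group
      _ = F.z * (e⁻¹ * o * e) := by rw [← h]; group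
  obtain ⟨k, hk, h3⟩ := odd_cent F hz (by
    rw [show e⁻¹ * o * e = e⁻¹ * o * e⁻¹⁻¹ by group, orderOf_conj']; exact ho)
  rw [hk]
  refine X.cent k h3 ?_
  rw [← hk]
  calc e⁻¹ * o * e * d = e⁻¹ * o * (e * d) := by group
    _ = e⁻¹ * (o * d) * e := by rw [X.e_d]; group
    _ = e⁻¹ * (d * o) * e := by rw [hd]
    _ = (e⁻¹ * d * e) * (e⁻¹ * o * e) := by group
    _ = d * (e⁻¹ * o * e) := by
      rw [show e⁻¹ * d * e = d by rw [mul_assoc, ← X.e_d, inv_mul_cancel_left]]

theorem ee_z (X : Axis F d e v) : e * e * F.z * (e * e)⁻¹ = v * F.z := by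
  rw [← X.e_v, ← X.e_z]; group

theorem fix_vz (X : Axis F d e v) {o : G} (hd : o * d = d * o)
    (hv : (v * F.z) * o * (v * F.z)⁻¹ = o) (ho : Odd (orderOf o)) :
    (e * e)⁻¹ * o * (e * e) ∈ pSub F := by
  have hed : ∀ g : G, g * d = d * g → e⁻¹ * g * e * d = d * (e⁻¹ * g * e) := fun g hg =>
    have h : e⁻¹ * d * e = d := by rw [mul_assoc, ← X.e_d, inv_mul_cancel_left]
    calc e⁻¹ * g * e * d = e⁻¹ * g * (e * d) := by group
      _ = e⁻¹ * (g * d) * e := by rw [X.e_d]; group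
      _ = (e⁻¹ * d * e) * (e⁻¹ * g * e) := by rw [hg]; group
      _ = d * (e⁻¹ * g * e) := by rw [h]
  rw [show (e * e)⁻¹ * o * (e * e) = e⁻¹ * (e⁻¹ * o * e) * e by group]
  refine X.fix_v (hed o hd) ?_ (by
    rw [show e⁻¹ * o * e = e⁻¹ * o * e⁻¹⁻¹ by group, orderOf_conj']; exact ho)
  rw [← X.e_v] at hv
  calc v * (e⁻¹ * o * e) * v⁻¹ = e⁻¹ * ((e * v * e⁻¹) * o * (e * v * e⁻¹)⁻¹) * e := by group
    _ = e⁻¹ * o * e := by rw [hv]

/-- generators of the candidate for the core -/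
def Gens (F : Frame G) (e : G) : Set G :=
  {g | g ∈ pSub F ∨ e⁻¹ * g * e ∈ pSub F ∨ (e * e)⁻¹ * g * (e * e) ∈ pSub F}

theorem gens_conj (X : Axis F d e v) {g : G} (h : g ∈ Gens F e) : e * g * e⁻¹ ∈ Gens F e := by
  rcases h with h | h | h
  · exact Or.inr (Or.inl (by rwa [show e⁻¹ * (e * g * e⁻¹) * e = g by group]))
  · exact Or.inr (Or.inr (by
      rwa [show (e * e)⁻¹ * (e * g * e⁻¹) * (e * e) = e⁻¹ * g * e by group]))
  · left
    have he : e * (e * e) = 1 := by rw [← mul_assoc, ← pow_three', X.e_cube]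
    have h1 : (e * e)⁻¹ = e := by
      exact inv_eq_of_mul_eq_one_left he
    have h2 : e⁻¹ = e * e := inv_eq_of_mul_eq_one_right he
    rwa [h2, show e * g * (e * e) = (e * e)⁻¹ * g * (e * e) by rw [h1]]

/-- a centralising element outside `P₀` makes the three conjugates commute -/
theorem conj_comm (X : Axis F d e v) {O : Subgroup G} (hO : IsCore F O)
    (hne : ∃ o ∈ O, o ∉ pSub F) :
    ∀ g, (e⁻¹ * g * e ∈ pSub F ∨ (e * e)⁻¹ * g * (e * e) ∈ pSub F) → g ∈ cZero F := by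
  have hd : ∀ o ∈ O, o * d = d * o := fun o ho => ((mem_cZero F).mp (hO.1 ho) d X.d_mem).symm
  obtain ⟨i, hi⟩ : ∃ i : ℕ, (i = 1 ∨ i = 2) ∧ ∃ o ∈ O, o ∉ pSub F ∧
      (e ^ i)⁻¹ * o * e ^ i ∈ pSub F := by
    by_contra hcon
    push Not at hcon
    obtain ⟨o, ho, hop⟩ := hne
    refine hop (le_of_three (z_sq F) X.v_sq X.v_z.symm hO.2.1 (fun _ h => hO.z_conj h)
      (fun x hx => hO.norm (fun p hp => by
        simpa [invol_inv_eq X.v_sq] using X.v_norm p hp) hx)
      (fun x hx p hp => by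
        rw [← (mem_cZero F).mp (hO.1 hx) p hp, mul_inv_cancel_right]; exact hp)
      X.v_norm (fun x hx => hO.fix_z hx) ?_ ?_ ho)
    · intro x hx hfix
      by_contra hxp
      refine hcon 1 (Or.inl rfl) x hx hxp ?_
      rw [pow_one]
      exact X.fix_v (hd x hx) hfix (hO.2.1.of_dvd_nat (Subgroup.orderOf_dvd_natCard O hx))
    · intro x hx hfix
      by_contra hxp
      refine hcon 2 (Or.inr rfl) x hx hxp ?_
      rw [pow_two]
      exact X.fix_vz (hd x hx) hfix (hO.2.1.of_dvd_nat (Subgroup.orderOf_dvd_natCard O hx))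
  obtain ⟨hi12, o, ho, hop, hconj⟩ := hi
  obtain ⟨p, hp, hpo⟩ : ∃ p, p ∈ pSub F ∧ e ^ i * p * (e ^ i)⁻¹ = o :=
    ⟨_, hconj, by group⟩
  have hed : e ^ i * d = d * e ^ i := (show Commute e d from X.e_d).pow_left i
  -- `d` and `p` generate `P₀`
  have hgen : pSub F ≤ Subgroup.closure {d, p} := by
    have hcard : Nat.card (pSub F) ∣ 9 := by
      rw [show (9 : ℕ) = Nat.card ((Subgroup.zpowers sX).prod (Subgroup.zpowers sX)) from ?_]
      · exact Subgroup.card_map_dvd _ _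
      · rw [Nat.card_congr (Subgroup.prodEquiv _ _).toEquiv, Nat.card_prod, Nat.card_zpowers,
          orderOf_eq_prime aut_rel.1 (by decide +kernel)]
    have hle : Subgroup.closure {d, p} ≤ pSub F := by
      rw [Subgroup.closure_le]; rintro x (rfl | rfl)
      · exact X.d_mem
      · exact hp
    have h3 : orderOf d = 3 := orderOf_eq_prime (pSub_cube F X.d_mem) X.d_ne
    have hzd : Subgroup.zpowers d ≤ Subgroup.closure {d, p} :=
      Subgroup.zpowers_le.mpr (Subgroup.subset_closure (Or.inl rfl))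
    have h1 := Subgroup.card_dvd_of_le hzd
    rw [Nat.card_zpowers, h3] at h1
    have h2 := Subgroup.card_dvd_of_le hle
    have h9 : Nat.card (Subgroup.closure {d, p}) ∣ 3 ^ 2 := h2.trans hcard
    obtain ⟨k, hk, he⟩ := (Nat.dvd_prime_pow Nat.prime_three).mp h9
    have hk2 : k = 2 := by
      rcases Nat.lt_or_ge k 2 with h | h
      · exfalso
        refine hop ?_
        have : Subgroup.zpowers d = Subgroup.closure {d, p} := by
          refine Subgroup.eq_of_le_of_card_ge hzd ?_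
          rw [he, Nat.card_zpowers, h3]
          interval_cases k <;> norm_num
        have hpd : p ∈ Subgroup.zpowers d := this ▸ Subgroup.subset_closure (Or.inr rfl)
        obtain ⟨m, rfl⟩ := Subgroup.mem_zpowers_iff.mp hpd
        rw [← hpo, ((show Commute (e ^ i) d from hed).zpow_right m).eq, mul_inv_cancel_right]
        exact Subgroup.zpow_mem _ X.d_mem m
      · omega
    subst hk2
    refine ge_of_eq (Subgroup.eq_of_le_of_card_ge hle ?_)
    rw [he]; exact Nat.le_of_dvd (by norm_num) hcard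
  have key : ∀ q ∈ pSub F, e ^ i * q * (e ^ i)⁻¹ ∈ cZero F := by
    intro q hq
    have : Subgroup.closure {d, p} ≤ (cZero F).comap (MulAut.conj (e ^ i)).toMonoidHom := by
      rw [Subgroup.closure_le]
      intro x hx
      show e ^ i * x * (e ^ i)⁻¹ ∈ cZero F
      rcases hx with rfl | rfl
      · rw [hed, mul_inv_cancel_right]; exact pSub_le_cZero F X.d_mem
      · rw [hpo]; exact hO.1 ho
    exact this (hgen hq)
  have he3 : e * e * e = 1 := by rw [← pow_three', X.e_cube]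
  have other : ∀ q ∈ pSub F, e ^ i * (e ^ i * q * (e ^ i)⁻¹) * (e ^ i)⁻¹ ∈ cZero F := by
    intro q hq
    refine (mem_cZero F).mpr fun r hr => ?_
    have h := (mem_cZero F).mp (key r hr) q hq
    -- conjugate `[q, e^i r] = 1` by `e^{2i}`
    have e3 : e ^ i * (e ^ i * (e ^ i * r * (e ^ i)⁻¹) * (e ^ i)⁻¹) * (e ^ i)⁻¹ = r := by
      have h1 : e ^ i * e ^ i * e ^ i = 1 := by
        rw [← pow_add, ← pow_add, show i + i + i = 3 * i by omega, pow_mul, X.e_cube, one_pow]
      calc _ = (e ^ i * e ^ i * e ^ i) * r * (e ^ i * e ^ i * e ^ i)⁻¹ := by group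
        _ = r := by rw [h1]; group
    calc r * (e ^ i * (e ^ i * q * (e ^ i)⁻¹) * (e ^ i)⁻¹)
        = e ^ i * (e ^ i * (e ^ i * r * (e ^ i)⁻¹) * (e ^ i)⁻¹) * (e ^ i)⁻¹ *
          (e ^ i * (e ^ i * q * (e ^ i)⁻¹) * (e ^ i)⁻¹) := by rw [e3]
      _ = e ^ i * (e ^ i * ((e ^ i * r * (e ^ i)⁻¹) * q) * (e ^ i)⁻¹) * (e ^ i)⁻¹ := by group
      _ = e ^ i * (e ^ i * (q * (e ^ i * r * (e ^ i)⁻¹)) * (e ^ i)⁻¹) * (e ^ i)⁻¹ := by rw [h]
      _ = (e ^ i * (e ^ i * q * (e ^ i)⁻¹) * (e ^ i)⁻¹) *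
          (e ^ i * (e ^ i * (e ^ i * r * (e ^ i)⁻¹) * (e ^ i)⁻¹) * (e ^ i)⁻¹) := by group
      _ = _ := by rw [e3]
  intro g hg
  rcases hi12 with rfl | rfl <;> rcases hg with hg | hg
  · simpa [mul_assoc] using key _ hg
  · simpa [mul_assoc] using other _ hg
  · have := other _ hg
    have e4 : e ^ 2 * (e ^ 2 * (e⁻¹ * g * e) * (e ^ 2)⁻¹) * (e ^ 2)⁻¹ =
        (e * e * e) * g * (e * e * e)⁻¹ := by rw [pow_two]; group
    rwa [e4, he3, one_mul, inv_one, mul_one] at this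
  · simpa [pow_two, mul_assoc] using key _ hg

theorem gens_le (X : Axis F d e v) {O : Subgroup G} (hO : IsCore F O)
    (hne : ∃ o ∈ O, o ∉ pSub F) : Subgroup.closure (Gens F e) ≤ O := by
  rw [Subgroup.closure_le]
  intro g hg
  have h3 : g ^ 3 = 1 := by
    rcases hg with h | h | h
    · exact pSub_cube F h
    · have e1 := pSub_cube F h
      have e2 : e⁻¹ * g * e = e⁻¹ * g * e⁻¹⁻¹ := by rw [inv_inv]
      rw [e2, conj_pow] at e1
      exact conj_eq_one_iff.mp e1
    · have e1 := pSub_cube F h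
      have e2 : (e * e)⁻¹ * g * (e * e) = (e * e)⁻¹ * g * (e * e)⁻¹⁻¹ := by rw [inv_inv]
      rw [e2, conj_pow] at e1
      exact conj_eq_one_iff.mp e1
  refine hO.2.2.1 g ?_ ((by decide : Odd 3).of_dvd_nat (orderOf_dvd_of_pow_eq_one h3))
  rcases hg with h | h
  · exact pSub_le_cZero F h
  · exact X.conj_comm hO hne g h

/-- the core is generated by the three conjugates of `P₀` -/
theorem core_eq (X : Axis F d e v) {O : Subgroup G} (hO : IsCore F O)
    (hne : ∃ o ∈ O, o ∉ pSub F) : O = Subgroup.closure (Gens F e) := by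
  refine le_antisymm ?_ (X.gens_le hO hne)
  have hd : ∀ o ∈ O, o * d = d * o := fun o ho => ((mem_cZero F).mp (hO.1 ho) d X.d_mem).symm
  have hP : pSub F ≤ Subgroup.closure (Gens F e) :=
    fun g hg => Subgroup.subset_closure (Or.inl hg)
  refine le_of_three (z_sq F) X.v_sq X.v_z.symm hO.2.1 (fun _ h => hO.z_conj h)
    (fun x hx => hO.norm (fun p hp => by simpa [invol_inv_eq X.v_sq] using X.v_norm p hp) hx)
    (fun x hx b hb => ?_) ?_ (fun x hx h => hP (hO.fix_z hx h))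
    (fun x hx h => Subgroup.subset_closure (Or.inr (Or.inl
      (X.fix_v (hd x hx) h (hO.2.1.of_dvd_nat (Subgroup.orderOf_dvd_natCard O hx))))))
    (fun x hx h => Subgroup.subset_closure (Or.inr (Or.inr
      (X.fix_vz (hd x hx) h (hO.2.1.of_dvd_nat (Subgroup.orderOf_dvd_natCard O hx))))))
  · rw [show x * b * x⁻¹ = (x * b * x⁻¹ * b⁻¹) * b by group]
    exact mul_mem (hP (hO.comm_mem hx (X.gens_le hO hne hb))) hb
  · -- `v` maps the generators into the closure
    have hv : v⁻¹ = v := invol_inv_eq X.v_sq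
    have he3 : e * (e * e) = 1 := by rw [← mul_assoc, ← pow_three', X.e_cube]
    intro b hb
    induction hb using Subgroup.closure_induction with
    | mem x hx =>
      have hxO := X.gens_le hO hne (Subgroup.subset_closure hx)
      have hvx := hO.norm (g := v) (fun p hp => by simpa [hv] using X.v_norm p hp) hxO
      rcases hx with h | h | h
      · exact hP (X.v_norm x h)
      · refine Subgroup.subset_closure (Or.inr (Or.inl
          (X.fix_v (hd _ hvx) ?_ (hO.2.1.of_dvd_nat (Subgroup.orderOf_dvd_natCard O hvx)))))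
        have hfix : v * x * v⁻¹ = x := by
          have hc := pSub_z F h
          rw [← X.e_z]
          calc e * F.z * e⁻¹ * x * (e * F.z * e⁻¹)⁻¹
              = e * (F.z * (e⁻¹ * x * e)) * F.z⁻¹ * e⁻¹ := by group
            _ = x := by rw [← hc]; group
        rw [hfix, hfix]
      · refine Subgroup.subset_closure (Or.inr (Or.inr
          (X.fix_vz (hd _ hvx) ?_ (hO.2.1.of_dvd_nat (Subgroup.orderOf_dvd_natCard O hvx)))))
        have hfix : (v * F.z) * x * (v * F.z)⁻¹ = x := by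
          have hc := pSub_z F h
          rw [← X.ee_z]
          generalize e * e = f at hc ⊢
          calc f * F.z * f⁻¹ * x * (f * F.z * f⁻¹)⁻¹
              = f * (F.z * (f⁻¹ * x * f)) * F.z⁻¹ * f⁻¹ := by group
            _ = x := by rw [← hc]; group
        have hcomm : (v * F.z) * v = v * (v * F.z) := by rw [mul_assoc, ← X.v_z]
        calc v * F.z * (v * x * v⁻¹) * (v * F.z)⁻¹
            = ((v * F.z) * v) * x * ((v * F.z) * v)⁻¹ := by group
          _ = v * x * v⁻¹ := by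
            rw [hcomm, show v * (v * F.z) * x * (v * (v * F.z))⁻¹ =
              v * ((v * F.z) * x * (v * F.z)⁻¹) * v⁻¹ by group, hfix]
    | one => rw [mul_one, mul_inv_cancel]; exact one_mem _
    | mul x y _ _ hx hy =>
      rw [show v * (x * y) * v⁻¹ = v * x * v⁻¹ * (v * y * v⁻¹) by group]; exact mul_mem hx hy
    | inv x _ hx =>
      rw [show v * x⁻¹ * v⁻¹ = (v * x * v⁻¹)⁻¹ by group]; exact inv_mem hx

theorem conj_core (X : Axis F d e v) {O : Subgroup G} (hO : IsCore F O)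
    (hne : ∃ o ∈ O, o ∉ pSub F) {o : G} (ho : o ∈ O) : e * o * e⁻¹ ∈ O := by
  rw [X.core_eq hO hne] at ho ⊢
  have : Subgroup.closure (Gens F e) ≤
      (Subgroup.closure (Gens F e)).comap (MulAut.conj e).toMonoidHom :=
    (Subgroup.closure_le _).mpr fun g hg => Subgroup.subset_closure (X.gens_conj hg)
  exact this ho

end Axis

end H63.UFour
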