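import Cfsg.Agent.H87.U43.Model

/-!
# Three-local analysis: finite facts on `C(z)`
-/

set_option autoImplicit false
set_option maxRecDepth 100000
set_option synthInstance.maxSize 2000
set_option synthInstance.maxHeartbeats 200000

namespace H63.UFour

open H87.U43

/-- action of `(k, a, b)` on `SL2 × SL2` -/
def cact (k : SL2 × SL2) (a b : Bool) (p : SL2 × SL2) : SL2 × SL2 := k * hAct a b p * k⁻¹

/-- membership in `± P₀` -/
def InP (k : SL2 × SL2) : Prop := ∃ i j : Fin 3, SgnEq k (sX ^ i.val, sX ^ j.val)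

instance (k : SL2 × SL2) : Decidable (InP k) :=
  inferInstanceAs (Decidable (∃ i j : Fin 3, SgnEq k (sX ^ i.val, sX ^ j.val)))

theorem pair_forall {P : SL2 × SL2 → Prop}
    (h : ∀ a b c d : ZMod 3, ∀ hh : a * d - b * c = 1, ∀ a' b' c' d' : ZMod 3,
      ∀ hh' : a' * d' - b' * c' = 1, P (slMk a b c d hh, slMk a' b' c' d' hh')) : ∀ k, P k :=
  fun k => by
    obtain ⟨u, v⟩ := k
    refine sl_forall (P := fun u => P (u, v)) (fun a b c d hh => ?_) u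
    exact sl_forall (P := fun v => P (slMk a b c d hh, v))
      (fun a' b' c' d' hh' => h a b c d hh a' b' c' d' hh') v

theorem cent_P0 : ∀ k : SL2 × SL2, ∀ a b : Bool, SgnEq (cact k a b (sX, 1)) (sX, 1) →
    SgnEq (cact k a b (1, sX)) (1, sX) →
      a = false ∧ b = false ∧ (InP k ∨ InP (k * (sZ, 1))) := by
  refine pair_forall ?_
  decide +kernel

theorem cent_d1_three : ∀ k : SL2 × SL2, SgnEq (k ^ 3) 1 →
    SgnEq (k * (sX, sX)) ((sX, sX) * k) → InP k := by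
  refine pair_forall ?_
  decide +kernel

theorem cent_d2_three : ∀ k : SL2 × SL2, SgnEq (k ^ 3) 1 →
    SgnEq (k * (sX, sX⁻¹)) ((sX, sX⁻¹) * k) → InP k := by
  refine pair_forall ?_
  decide +kernel

theorem d_no_fuse : ∀ k : SL2 × SL2, ∀ a b : Bool,
    ¬ SgnEq (cact k a b (sX, sX)) (sX, sX⁻¹) ∧ ¬ SgnEq (cact k a b (sX, sX)) (sX⁻¹, sX) ∧
    ¬ SgnEq (cact k a b (sX, sX⁻¹)) (sX, sX) ∧ ¬ SgnEq (cact k a b (sX, sX⁻¹)) (sX⁻¹, sX⁻¹) := by
  refine pair_forall ?_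
  decide +kernel

theorem fix_d1_d2 : ∀ k : SL2 × SL2, ∀ a b : Bool, SgnEq (cact k a b (sX, sX)) (sX, sX) →
    InP (cact k a b (sX, sX⁻¹)) →
    SgnEq (cact k a b (sX, sX⁻¹)) (sX, sX⁻¹) ∨ SgnEq (cact k a b (sX, sX⁻¹)) (sX⁻¹, sX) := by
  refine pair_forall ?_
  decide +kernel

theorem fix_d2_d1 : ∀ k : SL2 × SL2, ∀ a b : Bool, SgnEq (cact k a b (sX, sX⁻¹)) (sX, sX⁻¹) →
    InP (cact k a b (sX, sX)) →
    SgnEq (cact k a b (sX, sX)) (sX, sX) ∨ SgnEq (cact k a b (sX, sX)) (sX⁻¹, sX⁻¹) := by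
  refine pair_forall ?_
  decide +kernel

theorem cent_x : ∀ k : SL2 × SL2, ∀ a b : Bool, SgnEq (cact k a b (sX, 1)) (sX, 1) →
    a = false ∧ b = false := by
  refine pair_forall ?_
  decide +kernel

theorem cent_x_invol : ∀ k : SL2 × SL2, SgnEq (k * (sX, 1)) ((sX, 1) * k) → SgnEq (k * k) 1 →
    SgnEq k 1 ∨ SgnEq k (sZ, 1) := by
  refine pair_forall ?_
  decide +kernel

theorem cent_x_fst : ∀ k : SL2 × SL2, SgnEq (k * (sX, 1)) ((sX, 1) * k) →
    ∃ i : Fin 3, k.1 = sX ^ i.val ∨ k.1 = sZ * sX ^ i.val := by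
  refine pair_forall ?_
  decide +kernel

theorem inP_props : ∀ i j : Fin 3,
    SgnEq ((sX ^ i.val, sX ^ j.val) * (sX, sX⁻¹)) ((sX, sX⁻¹) * (sX ^ i.val, sX ^ j.val)) := by
  decide +kernel

end H63.UFour
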