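import Cfsg.Agent.H87.U43.Interface
import Cfsg.Agent.H63.UFour.ThreeFacts
import Cfsg.Agent.H63.UFour.ThreeGen

/-!
# Three-local analysis: the centraliser of `z` in the coordinates of a frame
-/

set_option autoImplicit false

namespace H63.UFour

open H87.U43

variable {G : Type*} [Group G] (F : Frame G)

theorem mu_eq {p q : SL2 × SL2} : F.mu p = F.mu q ↔ SgnEq p q := by
  constructor
  · intro h
    have h1 : F.mu (p⁻¹ * q) = 1 := by rw [map_mul, map_inv, h, inv_mul_cancel]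
    rcases (F.mu_ker _).mp h1 with e | e
    · exact Or.inl (inv_mul_eq_one.mp e)
    · right
      rw [inv_mul_eq_iff_eq_mul.mp e, mul_assoc,
        show (((sZ, sZ) : SL2 × SL2) * (sZ, sZ)) = 1 by decide +kernel, mul_one]
  · rintro (rfl | rfl)
    · rfl
    · rw [map_mul, (F.mu_ker _).mpr (Or.inr rfl), mul_one]

theorem z_sq : F.z * F.z = 1 := by
  rw [← F.mu_neg, ← map_mul, F.mu_ker]; left; decide +kernel

theorem z_mu (p : SL2 × SL2) : F.mu p * F.z = F.z * F.mu p := by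
  rw [← F.mu_neg, ← map_mul, ← map_mul]
  congr 1
  exact Prod.ext (sZ_comm p.1).symm (by simp)

theorem s_z : F.s * F.z = F.z * F.s := by
  have h : F.s * F.mu (sZ, 1) * F.s⁻¹ = F.mu (1, sZ) := F.s_mu _ _
  rw [F.mu_neg, (mu_eq F).mpr (show SgnEq ((1 : SL2), sZ) (sZ, 1) by decide +kernel),
    F.mu_neg] at h
  exact mul_inv_eq_iff_eq_mul.mp h

theorem tau_z : F.tau * F.z = F.z * F.tau := by rw [← F.tau_sq, mul_assoc]

/-- a general element of `C(z)` -/
def hel (k : SL2 × SL2) (a b : Bool) : G :=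
  F.mu k * (if a then F.s else 1) * (if b then F.tau else 1)

theorem exists_hel {g : G} (hg : g * F.z = F.z * g) : ∃ k a b, g = hel F k a b :=
  (F.cent g).mp hg

theorem hel_conj (k : SL2 × SL2) (a b : Bool) (p : SL2 × SL2) :
    hel F k a b * F.mu p * (hel F k a b)⁻¹ = F.mu (cact k a b p) := by
  have hb : (if b then F.tau else 1) * F.mu p * (if b then F.tau else (1 : G))⁻¹ =
      F.mu (bif b then (dlt p.1, dlt p.2) else p) := by
    cases b
    · simp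
    · obtain ⟨u, v⟩ := p
      simpa using F.tau_mu u v
  have ha : ∀ q : SL2 × SL2, (if a then F.s else 1) * F.mu q * (if a then F.s else (1 : G))⁻¹ =
      F.mu (bif a then (q.2, q.1) else q) := by
    rintro ⟨u, v⟩
    cases a
    · simp
    · simpa using F.s_mu u v
  calc hel F k a b * F.mu p * (hel F k a b)⁻¹
      = F.mu k * ((if a then F.s else 1) * ((if b then F.tau else 1) * F.mu p *
          (if b then F.tau else (1 : G))⁻¹) * (if a then F.s else (1 : G))⁻¹) * (F.mu k)⁻¹ := by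
        unfold hel; group
    _ = F.mu (cact k a b p) := by rw [hb, ha, ← map_inv, ← map_mul, ← map_mul]; rfl

theorem sq_mem_range {g : G} (hg : g * F.z = F.z * g) : ∃ k, g * g = F.mu k := by
  obtain ⟨k, a, b, rfl⟩ := exists_hel F hg
  have key : ∀ r : G, (∀ p, ∃ q, r * F.mu p * r⁻¹ = F.mu q) → (∃ q, r * r = F.mu q) →
      ∀ k, ∃ q, (F.mu k * r) * (F.mu k * r) = F.mu q := by
    rintro r h1 ⟨q, hq⟩ k
    obtain ⟨k', hk'⟩ := h1 k
    exact ⟨k * k' * q, by rw [map_mul, map_mul, ← hk', ← hq]; group⟩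
  rw [show hel F k a b = F.mu k * ((if a then F.s else 1) * (if b then F.tau else 1)) by
    rw [hel, mul_assoc]]
  refine key _ (fun p => ⟨cact 1 a b p, ?_⟩) ?_ k
  · rw [← hel_conj]; simp [hel]
  · cases a <;> cases b
    · exact ⟨1, by simp⟩
    · exact ⟨(sZ, 1), by simp [F.tau_sq, F.mu_neg]⟩
    · exact ⟨1, by simp [F.s_sq]⟩
    · refine ⟨1, ?_⟩
      have h : F.s * F.tau * (F.s * F.tau) = 1 :=
        calc F.s * F.tau * (F.s * F.tau) = F.s * (F.tau * F.s) * F.tau := by group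
          _ = (F.s * F.s) * (F.tau * F.z) * F.tau := by rw [F.tau_s]; group
          _ = F.tau * F.tau * F.z := by rw [F.s_sq, one_mul, mul_assoc, ← tau_z, ← mul_assoc]
          _ = 1 := by rw [F.tau_sq, z_sq]
      simpa using h

theorem odd_cent {g : G} [Finite G] (hg : g * F.z = F.z * g) (ho : Odd (orderOf g)) :
    ∃ k, g = F.mu k ∧ SgnEq (k ^ 3) 1 := by
  obtain ⟨q, hq⟩ := sq_mem_range F hg
  obtain ⟨n, hn⟩ := ho
  have hk : g = F.mu (q ^ (n + 1)) := by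
    rw [map_pow, ← hq, ← pow_two, ← pow_mul, show 2 * (n + 1) = orderOf g + 1 by omega, pow_succ,
      pow_orderOf_eq_one, one_mul]
  refine ⟨_, hk, ?_⟩
  rw [← mu_eq F, map_pow, map_one, ← hk]
  have hmem : g ∈ Subgroup.centralizer ({F.z} : Set G) :=
    Subgroup.mem_centralizer_singleton_iff.mpr hg
  have hd := Subgroup.orderOf_dvd_natCard _ hmem
  rw [F.card_cent] at hd
  have hd9 : orderOf g ∣ 9 := by
    have hcop : Nat.Coprime (orderOf g) 128 := by
      rw [show (128 : ℕ) = 2 ^ 7 from rfl]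
      exact Nat.Coprime.pow_right _ (Nat.coprime_two_right.mpr ⟨n, hn⟩)
    exact hcop.dvd_of_dvd_mul_left (by simpa using hd)
  have h9 : g ^ 9 = 1 := orderOf_dvd_iff_pow_eq_one.mp hd9
  have key : ∀ k : SL2 × SL2, SgnEq (k ^ 9) 1 → SgnEq (k ^ 3) 1 := by
    have h1 : ∀ u : SL2, (u ^ 9 = 1 → u ^ 3 = 1) ∧ (u ^ 9 = sZ → u ^ 3 = sZ) := by
      refine sl_forall ?_
      decide +kernel
    rintro ⟨u, v⟩ h
    simp only [SgnEq, Prod.pow_def, Prod.mk_eq_one, one_mul, Prod.mk.injEq] at h ⊢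
    rcases h with ⟨h, h'⟩ | ⟨h, h'⟩
    · exact Or.inl ⟨(h1 u).1 h, (h1 v).1 h'⟩
    · exact Or.inr ⟨(h1 u).2 h, (h1 v).2 h'⟩
  have := key (q ^ (n + 1)) (by rw [← mu_eq F, map_pow, ← hk, h9, map_one])
  rw [← mu_eq F, map_pow, ← hk, map_one] at this
  exact this

/-! ## `P₀` -/

/-- `x^i y^j` -/
def pEl (i j : Fin 3) : G := F.mu (sX ^ i.val, sX ^ j.val)

/-- `P₀ = ⟨x, y⟩` -/
def pSub : Subgroup G := ((Subgroup.zpowers sX).prod (Subgroup.zpowers sX)).map F.mu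

theorem mem_pSub {g : G} : g ∈ pSub F ↔ ∃ i j : Fin 3, g = pEl F i j := by
  constructor
  · rintro ⟨⟨u, v⟩, huv, rfl⟩
    have h : ∀ w : SL2, w ∈ Subgroup.zpowers sX → ∃ i : Fin 3, w = sX ^ i.val := by
      intro w hw
      obtain ⟨n, rfl⟩ := Subgroup.mem_zpowers_iff.mp hw
      refine ⟨⟨(n % 3).toNat, by omega⟩, ?_⟩
      show sX ^ n = sX ^ (n % 3).toNat
      rw [← zpow_natCast, Int.toNat_of_nonneg (by omega)]
      conv_lhs => rw [← Int.mul_ediv_add_emod n 3]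
      rw [zpow_add, zpow_mul, show sX ^ (3 : ℤ) = 1 from aut_rel.1, one_zpow, one_mul]
    obtain ⟨hu, hv⟩ := Subgroup.mem_prod.mp huv
    obtain ⟨i, rfl⟩ := h u hu
    obtain ⟨j, rfl⟩ := h v hv
    exact ⟨i, j, rfl⟩
  · rintro ⟨i, j, rfl⟩
    exact ⟨_, Subgroup.mem_prod.mpr ⟨pow_mem (Subgroup.mem_zpowers _) _,
      pow_mem (Subgroup.mem_zpowers _) _⟩, rfl⟩

theorem mu_mem_pSub {k : SL2 × SL2} (h : InP k) : F.mu k ∈ pSub F := by
  obtain ⟨i, j, h⟩ := h
  exact (mem_pSub F).mpr ⟨i, j, (mu_eq F).mpr h⟩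

theorem pSub_comm {g h : G} (hg : g ∈ pSub F) (hh : h ∈ pSub F) : g * h = h * g := by
  obtain ⟨i, j, rfl⟩ := (mem_pSub F).mp hg
  obtain ⟨i', j', rfl⟩ := (mem_pSub F).mp hh
  rw [pEl, pEl, ← map_mul, ← map_mul]
  simp only [Prod.mk_mul_mk, ← pow_add, add_comm]

theorem pSub_cube {g : G} (hg : g ∈ pSub F) : g ^ 3 = 1 := by
  obtain ⟨i, j, rfl⟩ := (mem_pSub F).mp hg
  rw [pEl, ← map_pow, Prod.pow_def, ← pow_mul, ← pow_mul, mul_comm i.val, mul_comm j.val,
    pow_mul, pow_mul, aut_rel.1, one_pow, one_pow]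
  exact map_one F.mu

theorem pSub_z {g : G} (hg : g ∈ pSub F) : g * F.z = F.z * g := by
  obtain ⟨i, j, rfl⟩ := (mem_pSub F).mp hg; exact z_mu F _

theorem pSub_odd [Finite G] {g : G} (hg : g ∈ pSub F) : Odd (orderOf g) :=
  (by decide : Odd 3).of_dvd_nat (orderOf_dvd_of_pow_eq_one (pSub_cube F hg))

/-- `P₀` is normalised by `s` and `τ` -/
theorem pSub_norm {g : G} (hg : g ∈ pSub F) :
    F.s * g * F.s⁻¹ ∈ pSub F ∧ F.tau * g * F.tau⁻¹ ∈ pSub F := by
  obtain ⟨i, j, rfl⟩ := (mem_pSub F).mp hg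
  rw [pEl, F.s_mu, F.tau_mu]
  exact ⟨(mem_pSub F).mpr ⟨j, i, rfl⟩, mu_mem_pSub F
    ((by decide +kernel : ∀ i j : Fin 3, InP (dlt (sX ^ i.val), dlt (sX ^ j.val))) i j)⟩

end H63.UFour
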