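import Cfsg.Agent.H63.UFour.ThreeBase

/-!
# The normal 2-complement of the centraliser of `P₀`
-/

set_option autoImplicit false

namespace H63.UFour

open H87.U43

variable {G : Type*} [Group G] (F : Frame G)

/-- `C(P₀)` -/
def cZero : Subgroup G := Subgroup.centralizer (pSub F : Set G)

theorem mem_cZero {g : G} : g ∈ cZero F ↔ ∀ p ∈ pSub F, p * g = g * p :=
  Subgroup.mem_centralizer_iff

theorem z_mem_cZero : F.z ∈ cZero F := (mem_cZero F).mpr fun _ hp => pSub_z F hp

theorem pSub_le_cZero : pSub F ≤ cZero F :=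
  fun _ hg => (mem_cZero F).mpr fun _ hp => pSub_comm F hp hg

theorem cZero_norm_z {g : G} (h : g ∈ cZero F) : F.z * g * F.z⁻¹ ∈ cZero F :=
  mul_mem (mul_mem (z_mem_cZero F) h) (inv_mem (z_mem_cZero F))

theorem cZero_cap {g : G} (hg : g ∈ cZero F) (hz : g * F.z = F.z * g) :
    g ∈ pSub F ∨ g * F.z ∈ pSub F := by
  obtain ⟨k, a, b, rfl⟩ := exists_hel F hz
  have hfix : ∀ p : SL2 × SL2, F.mu p ∈ pSub F → SgnEq (cact k a b p) p := by
    intro p hp
    rw [← mu_eq F, ← hel_conj, ← (mem_cZero F).mp hg _ hp, mul_inv_cancel_right]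
  obtain ⟨rfl, rfl, h⟩ := cent_P0 k a b (hfix _ (mu_mem_pSub F (by decide +kernel)))
    (hfix _ (mu_mem_pSub F (by decide +kernel)))
  rw [show hel F k false false = F.mu k by simp [hel]]
  rcases h with h | h
  · exact Or.inl (mu_mem_pSub F h)
  · right; rw [← F.mu_neg, ← map_mul]; exact mu_mem_pSub F h

variable [Finite G]

/-- the odd elements of `C(P₀)` form a subgroup of index two -/
theorem exists_core : ∃ O : Subgroup G, O ≤ cZero F ∧ Odd (Nat.card O) ∧
    (∀ g ∈ cZero F, Odd (orderOf g) → g ∈ O) ∧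
    ∀ g ∈ cZero F, g ∈ O ∨ g * F.z ∈ O := by
  have : Fact (Nat.Prime 2) := ⟨Nat.prime_two⟩
  let zc : cZero F := ⟨F.z, z_mem_cZero F⟩
  have hz1 : zc ≠ 1 := fun h => F.z_ne (congrArg Subtype.val h)
  have hz2 : zc * zc = 1 := Subtype.ext (z_sq F)
  have hord : orderOf zc = 2 := orderOf_eq_prime (by rw [pow_two, hz2]) hz1
  obtain ⟨P, hP⟩ := (IsPGroup.of_card (n := 1)
    (by rw [Nat.card_zpowers, hord, pow_one]) : IsPGroup 2 (Subgroup.zpowers zc)).exists_le_sylow
  have hmemz : ∀ x : cZero F, x ∈ Subgroup.zpowers zc → x = 1 ∨ x = zc := by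
    intro x hx
    obtain ⟨n, rfl⟩ := Subgroup.mem_zpowers_iff.mp hx
    rw [← zpow_mod_orderOf, hord]
    rcases Int.emod_two_eq_zero_or_one n with h | h <;> simp [h]
  -- 2-elements of C(z) ∩ C(P₀) lie in ⟨z⟩
  have hsmall : ∀ x : cZero F, x ∈ (P : Subgroup (cZero F)) → x * zc = zc * x →
      x ∈ Subgroup.zpowers zc := by
    intro x hx hc
    obtain ⟨n, hn⟩ := P.isPGroup' ⟨x, hx⟩
    have hn' : ((x : G)) ^ 2 ^ n = 1 := by
      have := congrArg (fun y : (P : Subgroup (cZero F)) => ((y : cZero F) : G)) hn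
      simpa using this
    have hkill : ∀ y : G, y ∈ pSub F → y ^ 2 ^ n = 1 → y = 1 := fun y hy h2 => by
      have hcop : Nat.Coprime 3 (2 ^ n) := Nat.Coprime.pow_right _ (by norm_num)
      have := Nat.dvd_gcd (orderOf_dvd_of_pow_eq_one (pSub_cube F hy))
        (orderOf_dvd_of_pow_eq_one h2)
      rw [hcop] at this
      exact orderOf_eq_one_iff.mp (Nat.dvd_one.mp this)
    rcases cZero_cap F x.2 (congrArg Subtype.val hc) with h | h
    · rw [show x = 1 from Subtype.ext (hkill _ h hn')]; exact one_mem _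
    · rcases Nat.eq_zero_or_pos n with rfl | hpos
      · rw [show x = 1 from Subtype.ext (by simpa using hn')]; exact one_mem _
      · have hzn : F.z ^ 2 ^ n = 1 := by
          obtain ⟨m, rfl⟩ := Nat.exists_eq_succ_of_ne_zero hpos.ne'
          rw [pow_succ', pow_mul, pow_two, z_sq, one_pow]
        have hxz : (x : G) * F.z = 1 := hkill _ h (by
          rw [(show Commute (x : G) F.z from congrArg Subtype.val hc).mul_pow, hn', hzn, one_mul])
        rw [show x = zc from Subtype.ext (by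
          rw [eq_inv_of_mul_eq_one_left hxz, invol_inv_eq (z_sq F)])]
        exact Subgroup.mem_zpowers _
  have hPz : (P : Subgroup (cZero F)) = Subgroup.zpowers zc := by
    refine le_antisymm ?_ hP
    by_contra hle
    have hlt : Subgroup.zpowers zc < (P : Subgroup (cZero F)) := lt_of_le_not_ge hP hle
    let Z : Subgroup (P : Subgroup (cZero F)) := (Subgroup.zpowers zc).subgroupOf P
    have hZ : Z < ⊤ := lt_of_le_of_ne le_top fun h =>
      hle (Subgroup.subgroupOf_eq_top.mp h)
    have := P.isPGroup'.isNilpotent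
    obtain ⟨x, hxn, hxZ⟩ := SetLike.exists_of_lt
      (Group.normalizerCondition_of_isNilpotent Z hZ)
    refine hxZ (hsmall _ x.2 ?_)
    have h1 := (Subgroup.mem_normalizer_iff.mp hxn ⟨zc, hP (Subgroup.mem_zpowers _)⟩).mp
      (Subgroup.mem_subgroupOf.mpr (Subgroup.mem_zpowers _))
    rcases hmemz _ (Subgroup.mem_subgroupOf.mp h1) with h | h
    · exact absurd (conj_eq_one_iff.mp h) hz1
    · exact mul_inv_eq_iff_eq_mul.mp h
  have hN : Subgroup.normalizer ((P : Subgroup (cZero F)) : Set (cZero F)) ≤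
      Subgroup.centralizer ((P : Subgroup (cZero F)) : Set (cZero F)) := by
    intro g hg
    rw [Subgroup.mem_centralizer_iff]
    intro x hx
    have h1 := (Subgroup.mem_normalizer_iff.mp hg zc).mp (hP (Subgroup.mem_zpowers _))
    rw [hPz] at h1 hx
    have hgz : g * zc * g⁻¹ = zc := (hmemz _ h1).resolve_left fun h =>
      hz1 (conj_eq_one_iff.mp h)
    rcases hmemz _ hx with rfl | rfl
    · simp
    · exact (mul_inv_eq_iff_eq_mul.mp hgz).symm
  have hco := MonoidHom.ker_transferSylow_isComplement' P hN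
  have hodd : Odd (Nat.card (MonoidHom.transferSylow P hN).ker) := by
    rw [← Nat.not_even_iff_odd, even_iff_two_dvd]
    exact MonoidHom.not_dvd_card_ker_transferSylow P hN
  refine ⟨(MonoidHom.transferSylow P hN).ker.map (cZero F).subtype, Subgroup.map_subtype_le _,
    ?_, ?_, ?_⟩
  · rwa [Subgroup.card_map_of_injective (cZero F).subtype_injective]
  · intro g hg ho
    refine ⟨⟨g, hg⟩, ?_, rfl⟩
    rw [SetLike.mem_coe, MonoidHom.mem_ker, ← orderOf_eq_one_iff]
    have h1 : orderOf (MonoidHom.transferSylow P hN ⟨g, hg⟩) ∣ orderOf g := by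
      rw [← Subgroup.orderOf_mk g hg]; exact orderOf_map_dvd _ _
    have h2 := orderOf_dvd_natCard (MonoidHom.transferSylow P hN ⟨g, hg⟩)
    have h3 : Nat.card (P : Subgroup (cZero F)) = 2 := by rw [hPz, Nat.card_zpowers, hord]
    rw [h3] at h2
    have := Nat.dvd_gcd h1 h2
    rw [show Nat.gcd (orderOf g) 2 = 1 from Nat.coprime_two_right.mpr ho] at this
    exact Nat.dvd_one.mp this
  · intro g hg
    obtain ⟨⟨⟨k, hk⟩, ⟨p, hp⟩⟩, hkp⟩ := hco.2 ⟨g, hg⟩
    change k * p = ⟨g, hg⟩ at hkp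
    rw [hPz] at hp
    rcases hmemz p hp with rfl | rfl
    · exact Or.inl ⟨k, hk, by simpa using congrArg Subtype.val hkp⟩
    · refine Or.inr ⟨k, hk, ?_⟩
      have e : (k : G) * F.z = g := congrArg Subtype.val hkp
      show (k : G) = g * F.z
      rw [← e, mul_assoc, z_sq, mul_one]

end H63.UFour
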