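import Cfsg.Agent.H63.UFour.ThreeAlpha

/-!
# From the frame and the Siegel action to the three-local datum
-/

set_option autoImplicit false

namespace H63.UFour

open H87.U43

variable {G : Type*} [Group G] [Finite G] (F : Frame G)

/-- `j` -/
def jEl : G := F.mu (1, sJ)

/-- the statement on the conjugate of `I` by `j` -/
def SiegelActs : Prop := ∀ (c d : ZMod 3) (v : V4),
  (jEl F * co F (iV c d) * (jEl F)⁻¹) * co F v * (jEl F * co F (iV c d) * (jEl F)⁻¹)⁻¹ =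
    co F (app (siegel c d) v)

theorem co_mem_lSub (u : V4) : co F u ∈ lSub F :=
  ⟨1, inL_one, fun v => by
    rw [app_one, core_comm F (co_mem F u) (co_mem F v), mul_inv_cancel_right]⟩

/-- an element of `C(z)` sending `y` outside `P₀` does not act as an element of `L` -/
theorem not_mem_lSub {k : SL2 × SL2}
    (hk : ¬ InP (k * (1, sX) * k⁻¹)) : F.mu k ∉ lSub F := by
  rintro ⟨m, -, hm⟩
  apply hk
  have h : F.mu (k * (1, sX) * k⁻¹) = co F (app m yV) := by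
    rw [← hm yV, (coord_x F).2, map_mul, map_mul, map_inv]
  have hz : F.z * co F (app m yV) * F.z⁻¹ = co F (app m yV) := by
    rw [← h, ← z_mu F, mul_inv_cancel_right]
  have hp := (coreSub_spec F).fix_z (co_mem F (app m yV)) hz
  rw [← h] at hp
  obtain ⟨i, j, hij⟩ := (mem_pSub F).mp hp
  exact ⟨i, j, (mu_eq F).mp hij⟩

theorem j_facts : SgnEq (((1, sJ) : SL2 × SL2) * (1, sJ)) (sZ, 1) ∧
    SgnEq ((dlt 1, dlt sJ) : SL2 × SL2) ((1, sJ) : SL2 × SL2)⁻¹ ∧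
    SgnEq (((1, sJ) : SL2 × SL2) * (sJ, 1)) ((sJ, 1) * (1, sJ)) ∧
    SgnEq (((1, sJ) : SL2 × SL2) * (sX, 1)) ((sX, 1) * (1, sJ)) ∧
    SgnEq (((1, sJ) : SL2 × SL2) * (1, sX) * (1, sJ))
      (((1, sX) : SL2 × SL2)⁻¹ * ((1, sJ) : SL2 × SL2)⁻¹ * ((1, sX) : SL2 × SL2)⁻¹) ∧
    ¬ InP (((1, sJ) : SL2 × SL2) * (1, sX) * ((1, sJ) : SL2 × SL2)⁻¹) ∧
    ¬ InP ((((1, sJ) : SL2 × SL2)⁻¹ * (1, sX) * (1, sJ)) * (1, sX) *
      (((1, sJ) : SL2 × SL2)⁻¹ * (1, sX) * (1, sJ))⁻¹) := by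
  decide +kernel

/-- the three-local datum -/
noncomputable def datum (hS : SiegelActs F) : Datum G where
  z := F.z
  s := F.s
  tau := F.tau
  j := jEl F
  alpha := coord F
  alpha_inj := coord_injective F
  N := lSub F
  alpha_le := by rintro _ ⟨u, rfl⟩; exact co_mem_lSub F (Multiplicative.toAdd u)
  act g hg := hg
  surj m hm := lSub_surj F hm
  ker g _ h := by obtain ⟨v, rfl⟩ := co_cent F h; exact ⟨_, rfl⟩
  z_mem := ⟨zMat, inL_z, conj_z F⟩
  s_mem := ⟨sMat, inL_s, conj_s F⟩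
  tau_mem := ⟨tauMat, inL_tau, conj_tau F⟩
  z_act := conj_z F
  s_act := conj_s F
  tau_act := conj_tau F
  z_sq := z_sq F
  s_sq := F.s_sq
  tau_sq := F.tau_sq
  tau_s := F.tau_s
  zs := (s_z F).symm
  j_sq := by rw [jEl, ← map_mul, (mu_eq F).mpr j_facts.1, F.mu_neg]
  tau_j := by rw [jEl, F.tau_mu, (mu_eq F).mpr j_facts.2.1, map_inv]
  j_sjs := by
    have h : F.s * jEl F * F.s = F.mu (sJ, 1) := by
      rw [jEl, ← F.s_mu 1 sJ, invol_inv_eq F.s_sq]
    rw [h, jEl, ← map_mul, ← map_mul, (mu_eq F).mpr j_facts.2.2.1]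
  j_x := by
    show jEl F * co F xV = co F xV * jEl F
    rw [(coord_x F).1, jEl, ← map_mul, ← map_mul, (mu_eq F).mpr j_facts.2.2.2.1]
  j_y := by
    show jEl F * co F yV * jEl F = co F (-yV) * (jEl F)⁻¹ * co F (-yV)
    rw [co_neg, (coord_x F).2, jEl, ← map_mul, ← map_mul, (mu_eq F).mpr j_facts.2.2.2.2.1,
      map_mul, map_mul, map_inv, map_inv]
  j_not_mem := not_mem_lSub F j_facts.2.2.2.2.2.1
  siegel_mem c d := ⟨siegel c d, inL_siegel c d, hS c d⟩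
  siegel_act := hS
  jy_not_mem := by
    show (jEl F)⁻¹ * co F yV * jEl F ∉ lSub F
    rw [(coord_x F).2, jEl, ← map_inv, ← map_mul, ← map_mul]
    exact not_mem_lSub F j_facts.2.2.2.2.2.2

theorem cent_le_G0 (hS : SiegelActs F) {g : G} (hg : g * F.z = F.z * g) :
    g ∈ (datum F hS).G0 := by
  have hN : ∀ u ∈ lSub F, u ∈ (datum F hS).G0 := fun u hu => Subgroup.subset_closure (Or.inl hu)
  have hj : jEl F ∈ (datum F hS).G0 := Subgroup.subset_closure (Or.inr rfl)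
  have hs : F.s ∈ (datum F hS).G0 := hN _ ⟨sMat, inL_s, conj_s F⟩
  have hJ1 : F.mu (sJ, 1) ∈ (datum F hS).G0 := by
    rw [← F.s_mu 1 sJ]; exact mul_mem (mul_mem hs hj) (inv_mem hs)
  have hX1 : F.mu (sX, 1) ∈ (datum F hS).G0 := (coord_x F).1 ▸ hN _ (co_mem_lSub F xV)
  have hX2 : F.mu (1, sX) ∈ (datum F hS).G0 := (coord_x F).2 ▸ hN _ (co_mem_lSub F yV)
  have hmu : ∀ k, F.mu k ∈ (datum F hS).G0 := by
    rintro ⟨u, v⟩
    have e : ((u, v) : SL2 × SL2) = (u, 1) * (1, v) := by simp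
    rw [e, map_mul]
    refine mul_mem ?_ ?_
    · obtain ⟨a, b, c, rfl⟩ := sl_gen u
      rw [show ((sX ^ a.val * sJ ^ c.val * sX ^ b.val, 1) : SL2 × SL2) =
        (sX, 1) ^ a.val * (sJ, 1) ^ c.val * (sX, 1) ^ b.val by simp [Prod.pow_def],
        map_mul, map_mul, map_pow, map_pow, map_pow]
      exact mul_mem (mul_mem (pow_mem hX1 _) (pow_mem hJ1 _)) (pow_mem hX1 _)
    · obtain ⟨a, b, c, rfl⟩ := sl_gen v
      rw [show ((1, sX ^ a.val * sJ ^ c.val * sX ^ b.val) : SL2 × SL2) =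
        (1, sX) ^ a.val * (1, sJ) ^ c.val * (1, sX) ^ b.val by simp [Prod.pow_def],
        map_mul, map_mul, map_pow, map_pow, map_pow]
      exact mul_mem (mul_mem (pow_mem hX2 _) (pow_mem hj _)) (pow_mem hX2 _)
  obtain ⟨k, a, b, rfl⟩ := exists_hel F hg
  refine mul_mem (mul_mem (hmu k) ?_) ?_
  · split
    · exact hs
    · exact one_mem _
  · split
    · exact hN _ ⟨tauMat, inL_tau, conj_tau F⟩
    · exact one_mem _

/-- the three-local module: everything except the Siegel action -/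
theorem exists_datum_of_siegel (hS : SiegelActs F) :
    ∃ D : Datum G, D.alpha (Multiplicative.ofAdd xV) = F.mu (sX, 1) ∧
      (∀ g : G, g * F.z = F.z * g → g ∈ D.G0) ∧ F.e ∈ D.G0 ∧ F.e' ∈ D.G0 :=
  ⟨datum F hS, (coord_x F).1, fun _ hg => cent_le_G0 F hS hg,
    Subgroup.subset_closure (Or.inl (e_mem F)), Subgroup.subset_closure (Or.inl (e'_mem F))⟩

end H63.UFour
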