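import Cfsg.Agent.H63.UFour.ThreeAxis

/-!
# `P₀` is not a Sylow subgroup of `C(d₁)`
-/

set_option autoImplicit false

namespace H63.UFour

open H87.U43

variable {G : Type*} [Group G] (F : Frame G)

/-- `d₁ = x y` -/
def dOne : G := F.mu (sX, sX)

/-- `d₂ = x y⁻¹` -/
def dTwo : G := F.mu (sX, sX⁻¹)

theorem mu_ne_one {p : SL2 × SL2} (h : ¬ SgnEq p 1) : F.mu p ≠ 1 := fun e => h (by
  rwa [← mu_eq F, map_one])

theorem axis_one : Axis F (dOne F) F.e F.s where
  d_mem := mu_mem_pSub F (by decide +kernel)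
  d_ne := mu_ne_one F (by decide +kernel)
  cent k h3 hc := mu_mem_pSub F (cent_d1_three k h3 (by rw [← mu_eq F, map_mul, map_mul]; exact hc))
  e_cube := F.e_cube
  e_d := F.e_d1
  e_z := F.e_z
  e_v := F.e_s
  v_sq := F.s_sq
  v_z := s_z F
  v_norm g hg := (pSub_norm F hg).1

theorem stau_sq : (F.s * F.tau) * (F.s * F.tau) = 1 :=
  calc F.s * F.tau * (F.s * F.tau) = F.s * (F.tau * F.s) * F.tau := by group
    _ = (F.s * F.s) * (F.tau * F.z) * F.tau := by rw [F.tau_s]; group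
    _ = F.tau * (F.z * F.tau) := by rw [F.s_sq, one_mul, mul_assoc]
    _ = 1 := by rw [← tau_z, ← mul_assoc, F.tau_sq, z_sq]

theorem stau_z : (F.s * F.tau) * F.z = F.z * (F.s * F.tau) := by
  rw [mul_assoc, tau_z, ← mul_assoc, s_z, mul_assoc]

theorem axis_two : Axis F (dTwo F) F.e' (F.s * F.tau) where
  d_mem := mu_mem_pSub F (by decide +kernel)
  d_ne := mu_ne_one F (by decide +kernel)
  cent k h3 hc := mu_mem_pSub F (cent_d2_three k h3 (by rw [← mu_eq F, map_mul, map_mul]; exact hc))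
  e_cube := F.e'_cube
  e_d := F.e'_d2
  e_z := F.e'_z
  e_v := F.e'_s
  v_sq := stau_sq F
  v_z := stau_z F
  v_norm g hg := by
    rw [show F.s * F.tau * g * (F.s * F.tau)⁻¹ = F.s * (F.tau * g * F.tau⁻¹) * F.s⁻¹ by group]
    exact (pSub_norm F (pSub_norm F hg).2).1

variable [Finite G]

/-- an involution `g z g⁻¹` in `P₀ z` is `z` -/
theorem conj_fix_of_mem {g : G} (hu : (g * F.z * g⁻¹) * (g * F.z * g⁻¹) = 1)
    (hp : g * F.z * g⁻¹ * F.z ∈ pSub F) : g * F.z = F.z * g := by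
  obtain ⟨u, hud⟩ : ∃ u, u = g * F.z * g⁻¹ := ⟨_, rfl⟩
  rw [← hud] at hu hp
  have hzq : Commute (u * F.z) F.z := pSub_z F hp
  have huz : Commute u F.z := by
    have h := hzq.mul_left (Commute.refl F.z)
    rwa [mul_assoc, z_sq, mul_one] at h
  have h2 : (u * F.z) ^ 2 = 1 := by
    rw [huz.mul_pow, pow_two, pow_two, hu, z_sq, one_mul]
  have h3 := pSub_cube F hp
  rw [pow_succ, h2, one_mul] at h3
  have : u = F.z := by rw [eq_inv_of_mul_eq_one_left h3, invol_inv_eq (z_sq F)]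
  rw [hud] at this
  exact mul_inv_eq_iff_eq_mul.mp this

/-- no four group centralises `x` -/
theorem x_no_four {a b : G} (ha : a * a = 1) (hb : b * b = 1) (ha1 : a ≠ 1) (hb1 : b ≠ 1)
    (hab : a * b = b * a) (hax : a * F.mu (sX, 1) = F.mu (sX, 1) * a)
    (hbx : b * F.mu (sX, 1) = F.mu (sX, 1) * b) : a = b := by
  have : Fact (Nat.Prime 2) := ⟨Nat.prime_two⟩
  set x := F.mu (sX, 1) with hx
  let C : Subgroup G := Subgroup.centralizer ({x} : Set G)
  have memC : ∀ g, g * x = x * g → g ∈ C := fun g h => Subgroup.mem_centralizer_singleton_iff.mpr h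
  let zc : C := ⟨F.z, memC _ (z_mu F _).symm⟩
  have hsole : ∀ u : C, u * u = 1 → u ≠ 1 → u * zc = zc * u → u = zc := by
    intro u hu hu1 huz
    have hc : (u : G) * x = x * (u : G) := Subgroup.mem_centralizer_singleton_iff.mp u.2
    have hz : (u : G) * F.z = F.z * (u : G) := congrArg Subtype.val huz
    obtain ⟨k, p, q, e⟩ := exists_hel F hz
    have hfix : SgnEq (cact k p q (sX, 1)) (sX, 1) := by
      rw [← mu_eq F, ← hel_conj, ← e, ← hx, hc, mul_inv_cancel_right]
    obtain ⟨rfl, rfl⟩ := cent_x k p q hfix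
    rw [show hel F k false false = F.mu k by simp [hel]] at e
    have h2 : SgnEq (k * k) 1 := by
      rw [← mu_eq F, map_mul, ← e, map_one]; exact congrArg Subtype.val hu
    have h1 : SgnEq (k * (sX, 1)) ((sX, 1) * k) := by
      rw [← mu_eq F, map_mul, map_mul, ← e]; exact hc
    apply Subtype.ext
    rcases cent_x_invol k h1 h2 with h | h
    · exact absurd (Subtype.ext (by rw [e, (mu_eq F).mpr h, map_one]; rfl)) hu1
    · show (u : G) = F.z
      rw [e, (mu_eq F).mpr h, F.mu_neg]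
  have hzc : zc * zc = 1 := Subtype.ext (z_sq F)
  have hz1 : zc ≠ 1 := fun h => F.z_ne (congrArg Subtype.val h)
  have hord : orderOf zc = 2 := orderOf_eq_prime (by rw [pow_two, hzc]) hz1
  obtain ⟨S, hS⟩ := (IsPGroup.of_card (n := 1)
    (by rw [Nat.card_zpowers, hord, pow_one]) : IsPGroup 2 (Subgroup.zpowers zc)).exists_le_sylow
  have hzS : zc ∈ (S : Subgroup C) := hS (Subgroup.mem_zpowers _)
  -- `z` is the only involution of `S`
  have honly : ∀ u ∈ (S : Subgroup C), u * u = 1 → u ≠ 1 → u = zc := by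
    have : Nontrivial (S : Subgroup C) :=
      ⟨⟨⟨zc, hzS⟩, 1, fun h => hz1 (congrArg Subtype.val h)⟩⟩
    have hnt := S.isPGroup'.center_nontrivial
    obtain ⟨w, hw⟩ : ∃ w, w ∈ Subgroup.center (S : Subgroup C) ∧ orderOf w = 2 := by
      obtain ⟨n, hn⟩ := IsPGroup.iff_card.mp (S.isPGroup'.to_subgroup (Subgroup.center _))
      have h2 : 2 ∣ Nat.card (Subgroup.center (S : Subgroup C)) := by
        rcases Nat.eq_zero_or_pos n with rfl | hpos
        · have h1 := Finite.one_lt_card (α := Subgroup.center (S : Subgroup C))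
          rw [hn, pow_zero] at h1
          exact absurd h1 (lt_irrefl 1)
        · rw [hn]; exact dvd_pow_self 2 hpos.ne'
      obtain ⟨w, hw⟩ := exists_prime_orderOf_dvd_card' 2 h2
      exact ⟨w, w.2, by rw [Subgroup.orderOf_coe]; exact hw⟩
    have hw2 : (w : C) * w = 1 := by
      have := pow_orderOf_eq_one w
      rw [hw.2, pow_two] at this
      exact congrArg Subtype.val this
    have hw1 : (w : C) ≠ 1 := fun h => by
      rw [show w = 1 from Subtype.ext h, orderOf_one] at hw; exact absurd hw.2 (by decide)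
    have hwz : (w : C) = zc := hsole _ hw2 hw1
      (congrArg Subtype.val (Subgroup.mem_center_iff.mp hw.1 ⟨zc, hzS⟩)).symm
    intro u hu h2 h1
    refine hsole u h2 h1 ?_
    rw [← hwz]
    exact congrArg Subtype.val (Subgroup.mem_center_iff.mp hw.1 ⟨u, hu⟩)
  let ac : C := ⟨a, memC _ hax⟩
  let bc : C := ⟨b, memC _ hbx⟩
  have hcomm : ∀ u ∈ Subgroup.closure {ac, bc}, ∀ v ∈ Subgroup.closure {ac, bc},
      u * v = v * u := by
    intro u hu v hv
    refine Subgroup.closure_induction₂ (p := fun u v _ _ => Commute u v) ?_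
      (fun x _ => Commute.one_left x) (fun x _ => Commute.one_right x)
      (fun _ _ _ _ _ _ h h' => h.mul_left h') (fun _ _ _ _ _ _ h h' => h.mul_right h')
      (fun _ _ _ _ h => h.inv_left) (fun _ _ _ _ h => h.inv_right) hu hv
    intro x y hx' hy
    rcases hx' with rfl | rfl <;> rcases hy with rfl | rfl <;>
      first | exact Commute.refl _ | exact Subtype.ext hab | exact Subtype.ext hab.symm
  have hp : IsPGroup 2 (Subgroup.closure {ac, bc}) := by
    rintro ⟨u, hu⟩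
    refine ⟨1, Subtype.ext ?_⟩
    show u ^ (2 ^ 1) = 1
    rw [pow_one, pow_two]
    induction hu using Subgroup.closure_induction with
    | mem y hy =>
      rcases hy with rfl | rfl
      · exact Subtype.ext ha
      · exact Subtype.ext hb
    | one => exact one_mul 1
    | mul y w hy hw hy2 hw2 =>
      rw [show y * w * (y * w) = y * (w * y) * w by group, ← hcomm y hy w hw,
        show y * (y * w) * w = (y * y) * (w * w) by group, hy2, hw2, one_mul]
    | inv y _ hy2 => rw [← mul_inv_rev, hy2, inv_one]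
  obtain ⟨T, hT⟩ := hp.exists_le_sylow
  obtain ⟨c, hc⟩ := MulAction.exists_smul_eq C T S
  have key : ∀ u : C, u ∈ (T : Subgroup C) → u * u = 1 → u ≠ 1 → c * u * c⁻¹ = zc := by
    intro u hu h2 h1
    refine honly _ ?_ ?_ (fun h => h1 (conj_eq_one_iff.mp h))
    · rw [← hc]
      exact Subgroup.smul_mem_pointwise_smul u (MulAut.conj c) (T : Subgroup C) hu
    · rw [show c * u * c⁻¹ * (c * u * c⁻¹) = c * (u * u) * c⁻¹ by group, h2]; group
  have e1 := key ac (hT (Subgroup.subset_closure (Or.inl rfl))) (Subtype.ext ha)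
    (fun h => ha1 (congrArg Subtype.val h))
  have e2 := key bc (hT (Subgroup.subset_closure (Or.inr rfl))) (Subtype.ext hb)
    (fun h => hb1 (congrArg Subtype.val h))
  exact congrArg Subtype.val (mul_left_cancel (mul_right_cancel (e1.trans e2.symm)))

theorem pSub_pow : ∀ i j : Fin 3,
    SgnEq (sX ^ i.val, sX ^ j.val) 1 ∨
    SgnEq (sX ^ i.val, sX ^ j.val) (sX, sX) ∨ SgnEq (sX ^ i.val, sX ^ j.val) (sX⁻¹, sX⁻¹) ∨
    SgnEq (sX ^ i.val, sX ^ j.val) (sX, sX⁻¹) ∨ SgnEq (sX ^ i.val, sX ^ j.val) (sX⁻¹, sX) ∨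
    SgnEq (sX ^ i.val, sX ^ j.val) (sX, 1) ∨ SgnEq (sX ^ i.val, sX ^ j.val) (sX⁻¹, 1) ∨
    SgnEq (sX ^ i.val, sX ^ j.val) (1, sX) ∨ SgnEq (sX ^ i.val, sX ^ j.val) (1, sX⁻¹) := by
  decide +kernel

/-- if the core is `P₀` then `P₀` is a maximal 3-subgroup of `C(d)` -/
theorem max_three {d e v : G} (X : Axis F d e v) {O : Subgroup G} (hO : IsCore F O)
    (hsmall : ∀ o ∈ O, o ∈ pSub F) {R : Subgroup G} (hR : IsPGroup 3 R) (hPR : pSub F ≤ R)
    (hRd : ∀ r ∈ R, r * d = d * r) : R = pSub F := by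
  have : Fact (Nat.Prime 3) := ⟨Nat.prime_three⟩
  refine le_antisymm ?_ hPR
  by_contra hle
  let Z : Subgroup R := (pSub F).subgroupOf R
  have hZ : Z < ⊤ := lt_of_le_of_ne le_top fun h => hle (Subgroup.subgroupOf_eq_top.mp h)
  have := hR.isNilpotent
  obtain ⟨g, hgn, hgZ⟩ := SetLike.exists_of_lt (Group.normalizerCondition_of_isNilpotent Z hZ)
  refine hgZ (Subgroup.mem_subgroupOf.mpr ?_)
  have hnorm : ∀ p ∈ pSub F, (g : G) * p * (g : G)⁻¹ ∈ pSub F := fun p hp => by
    have := (Subgroup.mem_normalizer_iff.mp hgn ⟨p, hPR hp⟩).mp (Subgroup.mem_subgroupOf.mpr hp)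
    exact Subgroup.mem_subgroupOf.mp this
  have hgodd : Odd (orderOf (g : G)) := by
    obtain ⟨n, hn⟩ := (IsPGroup.iff_orderOf.mp hR) g
    rw [Subgroup.orderOf_coe, hn]; exact (by decide : Odd 3).pow
  have hgz : (g : G) * F.z = F.z * (g : G) := by
    have hc : (g : G) * F.z * (g : G)⁻¹ ∈ cZero F := by
      refine (mem_cZero F).mpr fun p hp => ?_
      have h1 : (g : G)⁻¹ * p * (g : G) ∈ pSub F :=
        Subgroup.mem_subgroupOf.mp
          (((Subgroup.mem_normalizer_iff'' (H := Z)).mp hgn ⟨p, hPR hp⟩).mp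
            (Subgroup.mem_subgroupOf.mpr hp))
      calc p * ((g : G) * F.z * (g : G)⁻¹) = g * (((g : G)⁻¹ * p * g) * F.z) * (g : G)⁻¹ := by
            group
        _ = g * F.z * (g : G)⁻¹ * p := by rw [pSub_z F h1]; group
    have h2 : orderOf ((g : G) * F.z * (g : G)⁻¹) = 2 := by
      rw [orderOf_conj']; exact orderOf_eq_prime (by rw [pow_two, z_sq]) F.z_ne
    rcases hO.2.2.2 _ hc with h | h
    · have := hO.2.1.of_dvd_nat (h2 ▸ Subgroup.orderOf_dvd_natCard O h)
      exact absurd this (by decide)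
    · have hp := hsmall _ h
      have hu : ((g : G) * F.z * (g : G)⁻¹) * ((g : G) * F.z * (g : G)⁻¹) = 1 := by
        have := pow_orderOf_eq_one ((g : G) * F.z * (g : G)⁻¹)
        rwa [h2, pow_two] at this
      exact conj_fix_of_mem F hu hp
  obtain ⟨k, hk, h3⟩ := odd_cent F hgz hgodd
  rw [hk]
  exact X.cent k h3 (hk ▸ hRd g g.2)

theorem core_ne {O : Subgroup G} (hO : IsCore F O) : ∃ o ∈ O, o ∉ pSub F := by
  by_contra hcon
  push Not at hcon
  have : Fact (Nat.Prime 3) := ⟨Nat.prime_three⟩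
  have hP : IsPGroup 3 (pSub F) := fun g => ⟨1, Subtype.ext (pSub_cube F g.2)⟩
  -- `P₀` is a Sylow subgroup of `C(d)` for both axes
  have hsyl : ∀ {d e v : G}, Axis F d e v →
      ∃ S : Sylow 3 (Subgroup.centralizer ({d} : Set G)),
        (S : Subgroup (Subgroup.centralizer ({d} : Set G))) =
          (pSub F).subgroupOf (Subgroup.centralizer ({d} : Set G)) := by
    intro d e v X
    have hle : pSub F ≤ Subgroup.centralizer ({d} : Set G) := fun g hg =>
      Subgroup.mem_centralizer_singleton_iff.mpr (pSub_comm F hg X.d_mem)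
    obtain ⟨S, hS⟩ := (hP.of_equiv (Subgroup.subgroupOfEquivOfLe hle).symm).exists_le_sylow
    refine ⟨S, ?_⟩
    have hRS : IsPGroup 3 ((S : Subgroup (Subgroup.centralizer ({d} : Set G))).map
        (Subgroup.centralizer ({d} : Set G)).subtype) := S.isPGroup'.map _
    have h := max_three F X hO hcon hRS (fun g hg => ⟨⟨g, hle hg⟩, hS hg, rfl⟩) (by
      rintro r ⟨r', -, rfl⟩
      exact Subgroup.mem_centralizer_singleton_iff.mp r'.2)
    refine le_antisymm (fun r hr => Subgroup.mem_subgroupOf.mpr ?_) hS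
    rw [← h]; exact ⟨r, hr, rfl⟩
  obtain ⟨c0, k, hk, he⟩ := F.e_fus
  obtain ⟨S1, hS1⟩ := hsyl (axis_one F)
  have heC : F.e ∈ Subgroup.centralizer ({dOne F} : Set G) :=
    Subgroup.mem_centralizer_singleton_iff.mpr F.e_d1
  have hep : IsPGroup 3 (Subgroup.zpowers (⟨F.e, heC⟩ : Subgroup.centralizer ({dOne F} : Set G))) := by
    rintro ⟨u, hu⟩
    obtain ⟨n, rfl⟩ := Subgroup.mem_zpowers_iff.mp hu
    refine ⟨1, Subtype.ext ?_⟩
    show ((⟨F.e, heC⟩ : Subgroup.centralizer ({dOne F} : Set G)) ^ n) ^ (3 ^ 1) = 1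
    rw [pow_one, ← zpow_natCast, ← zpow_mul, mul_comm, zpow_mul, zpow_natCast,
      show (⟨F.e, heC⟩ : Subgroup.centralizer ({dOne F} : Set G)) ^ 3 = 1 from
        Subtype.ext F.e_cube, one_zpow]
  obtain ⟨T, hT⟩ := hep.exists_le_sylow
  obtain ⟨c, hc⟩ := MulAction.exists_smul_eq (Subgroup.centralizer ({dOne F} : Set G)) T S1
  obtain ⟨p, hpdef⟩ : ∃ p : G, p = (c : G) * F.e * (c : G)⁻¹ := ⟨_, rfl⟩
  have hpP : p ∈ pSub F := by
    have h := Subgroup.smul_mem_pointwise_smul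
      (⟨F.e, heC⟩ : Subgroup.centralizer ({dOne F} : Set G)) (MulAut.conj c)
      (T : Subgroup (Subgroup.centralizer ({dOne F} : Set G))) (hT (Subgroup.mem_zpowers _))
    rw [← Sylow.coe_subgroup_smul] at h
    have h' : c * (⟨F.e, heC⟩ : Subgroup.centralizer ({dOne F} : Set G)) * c⁻¹ ∈
        (S1 : Subgroup (Subgroup.centralizer ({dOne F} : Set G))) := hc ▸ h
    rw [hS1, Subgroup.mem_subgroupOf] at h'
    rw [hpdef]; exact h'
  have hcd : (c : G) * dOne F = dOne F * (c : G) :=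
    Subgroup.mem_centralizer_singleton_iff.mp c.2
  have hne1 : F.e ≠ 1 := fun h => by
    have := F.e_z
    rw [h, one_mul, inv_one, mul_one] at this
    have h2 := F.e_s
    rw [h, one_mul, inv_one, mul_one, ← this, z_sq] at h2
    exact F.z_ne h2
  have hez : ¬ F.e * F.z = F.z * F.e := fun h => by
    have h1 := F.e_z
    rw [h, mul_inv_cancel_right] at h1
    have h2 := F.e_s
    rw [← h1, h, mul_inv_cancel_right, z_sq] at h2
    exact F.z_ne h2
  -- the fusing element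
  obtain ⟨g, hg⟩ : ∃ g, g = (c : G) * c0 := ⟨_, rfl⟩
  have hgp : g * dOne F ^ k * g⁻¹ = p := by
    rw [hpdef, he, hg]; unfold dOne; group
  -- four group in the centraliser of `p`
  have hfour : ∀ q : G, (q * (g * F.z * g⁻¹) = (g * F.z * g⁻¹) * q) →
      (q * (g * F.s * g⁻¹) = (g * F.s * g⁻¹) * q) →
      q ≠ F.mu (sX, 1) ∧ q ≠ F.mu (1, sX) ∧ q ≠ F.mu (sX⁻¹, 1) ∧ q ≠ F.mu (1, sX⁻¹) := by
    intro q hqz hqs
    have base : ∀ m : G, q = m * F.mu (sX, 1) * m⁻¹ ∨ q = m * (F.mu (sX, 1))⁻¹ * m⁻¹ → False := by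
      intro m hm
      obtain ⟨h, hh⟩ : ∃ h, h = m⁻¹ * g := ⟨_, rfl⟩
      have conjd : ∀ u : G, q * (g * u * g⁻¹) = (g * u * g⁻¹) * q →
          (h * u * h⁻¹) * F.mu (sX, 1) = F.mu (sX, 1) * (h * u * h⁻¹) := by
        intro u hu
        have hu' : Commute (m⁻¹ * q * m) (h * u * h⁻¹) := by
          show m⁻¹ * q * m * (h * u * h⁻¹) = h * u * h⁻¹ * (m⁻¹ * q * m)
          calc m⁻¹ * q * m * (h * u * h⁻¹) = m⁻¹ * (q * (g * u * g⁻¹)) * m := by rw [hh]; group
            _ = h * u * h⁻¹ * (m⁻¹ * q * m) := by rw [hu, hh]; group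
        rcases hm with e | e
        · rw [e, show m⁻¹ * (m * F.mu (sX, 1) * m⁻¹) * m = F.mu (sX, 1) by group] at hu'
          exact hu'.symm.eq
        · rw [e, show m⁻¹ * (m * (F.mu (sX, 1))⁻¹ * m⁻¹) * m = (F.mu (sX, 1))⁻¹ by group] at hu'
          exact (by simpa using hu'.inv_left : Commute (F.mu (sX, 1)) _).symm.eq
      have hsq : ∀ u : G, u * u = 1 → h * u * h⁻¹ * (h * u * h⁻¹) = 1 := fun u hu => by
        rw [show h * u * h⁻¹ * (h * u * h⁻¹) = h * (u * u) * h⁻¹ by group, hu]; group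
      have hs1 : F.s ≠ 1 := fun e => by
        have h2 := F.e_s
        rw [e, mul_one, mul_inv_cancel, one_mul] at h2
        exact F.z_ne h2.symm
      have h' := x_no_four F (hsq _ (z_sq F)) (hsq _ F.s_sq)
        (fun e => F.z_ne (conj_eq_one_iff.mp e)) (fun e => hs1 (conj_eq_one_iff.mp e))
        (by rw [show h * F.z * h⁻¹ * (h * F.s * h⁻¹) = h * (F.z * F.s) * h⁻¹ by group,
          ← s_z]; group) (conjd _ hqz) (conjd _ hqs)
      have hzs : F.z = F.s := mul_left_cancel (mul_right_cancel h')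
      have h2 := F.e_z
      rw [← hzs] at h2
      exact hez (mul_inv_eq_iff_eq_mul.mp h2)
    have hsx : F.s * F.mu (sX, 1) * F.s⁻¹ = F.mu (1, sX) := F.s_mu _ _
    have hxi : (F.mu (sX, 1))⁻¹ = F.mu (sX⁻¹, 1) := by rw [← map_inv, Prod.inv_mk, inv_one]
    refine ⟨fun e => base 1 (Or.inl ?_), fun e => base F.s (Or.inl (e.trans hsx.symm)),
      fun e => base 1 (Or.inr ?_), fun e => base F.s (Or.inr ?_)⟩
    · rw [e]; group
    · rw [e, ← hxi]; group
    · rw [e, ← map_inv, Prod.inv_mk, inv_one, F.s_mu]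
  have hd1z : Commute (dOne F) F.z := z_mu F _
  have hd1s : Commute (dOne F) F.s := by
    have h : F.s * dOne F * F.s⁻¹ = dOne F := F.s_mu _ _
    exact (mul_inv_eq_iff_eq_mul.mp h).symm
  have hcp : ∀ u : G, Commute (dOne F) u → p * (g * u * g⁻¹) = (g * u * g⁻¹) * p := by
    intro u hu
    rw [← hgp]
    calc g * dOne F ^ k * g⁻¹ * (g * u * g⁻¹) = g * (dOne F ^ k * u) * g⁻¹ := by group
      _ = _ := by rw [(hu.pow_left k).eq]; group
  obtain ⟨hn1, hn2, hn3, hn4⟩ := hfour p (hcp _ hd1z) (hcp _ hd1s)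
  obtain ⟨i, j, hij⟩ := (mem_pSub F).mp hpP
  have hd2inv : (dTwo F)⁻¹ = F.mu (sX⁻¹, sX) := by rw [dTwo, ← map_inv, Prod.inv_mk, inv_inv]
  have hcase : p = dTwo F ∨ p = (dTwo F)⁻¹ := by
    rw [pEl] at hij
    rcases pSub_pow i j with h | h | h | h | h | h | h | h | h <;>
      rw [(mu_eq F).mpr h] at hij
    · exact absurd (by rw [hij, map_one] at hpdef; exact conj_eq_one_iff.mp hpdef.symm) hne1
    · exfalso; apply hez
      have : F.e = dOne F := by
        apply mul_left_cancel (a := (c : G)); apply mul_right_cancel (b := (c : G)⁻¹)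
        rw [← hpdef, hij, hcd, mul_inv_cancel_right]; rfl
      rw [this]; exact z_mu F _
    · exfalso; apply hez
      have : F.e = (dOne F)⁻¹ := by
        apply mul_left_cancel (a := (c : G)); apply mul_right_cancel (b := (c : G)⁻¹)
        rw [← hpdef, hij, (show Commute (c : G) (dOne F) from hcd).inv_right.eq,
          mul_inv_cancel_right, dOne, ← map_inv, Prod.inv_mk]
      rw [this, dOne, ← map_inv]; exact z_mu F _
    · exact Or.inl hij
    · exact Or.inr (hij.trans hd2inv.symm)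
    · exact absurd hij hn1
    · exact absurd hij hn3
    · exact absurd hij hn2
    · exact absurd hij hn4
  -- `g` maps `C(d₁)` to `C(d₂)`
  obtain ⟨g1, hg1⟩ : ∃ g1 : G, g1 * dOne F * g1⁻¹ = dTwo F ∨
      g1 * dOne F * g1⁻¹ = (dTwo F)⁻¹ := by
    refine ⟨g, ?_⟩
    rcases hk with rfl | rfl
    · rw [pow_one] at hgp; rw [hgp]; exact hcase
    · have hinv : dOne F ^ 2 = (dOne F)⁻¹ := eq_inv_of_mul_eq_one_left (by
        rw [← pow_succ]; exact pSub_cube F (axis_one F).d_mem)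
      rw [hinv] at hgp
      have : g * dOne F * g⁻¹ = p⁻¹ := by rw [← hgp]; group
      rcases hcase with h | h
      · exact Or.inr (this.trans (by rw [h]))
      · exact Or.inl (this.trans (by rw [h, inv_inv]))
  obtain ⟨S2, hS2⟩ := hsyl (axis_two F)
  have hg1c : ∀ u : G, u * dOne F = dOne F * u →
      (g1 * u * g1⁻¹) * dTwo F = dTwo F * (g1 * u * g1⁻¹) := by
    intro u hu
    have hC : Commute (g1 * u * g1⁻¹) (g1 * dOne F * g1⁻¹) := by
      show g1 * u * g1⁻¹ * (g1 * dOne F * g1⁻¹) = g1 * dOne F * g1⁻¹ * (g1 * u * g1⁻¹)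
      calc g1 * u * g1⁻¹ * (g1 * dOne F * g1⁻¹) = g1 * (u * dOne F) * g1⁻¹ := by group
        _ = _ := by rw [hu]; group
    rcases hg1 with e | e <;> rw [e] at hC
    · exact hC.eq
    · exact (by simpa using hC.inv_right : Commute _ (dTwo F)).eq
  let R : Subgroup G := (pSub F).map (MulAut.conj g1).toMonoidHom
  have hRle : R ≤ Subgroup.centralizer ({dTwo F} : Set G) := by
    rintro _ ⟨u, hu, rfl⟩
    exact Subgroup.mem_centralizer_singleton_iff.mpr
      (hg1c u (pSub_comm F hu (axis_one F).d_mem))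
  obtain ⟨T2, hT2⟩ :=
    ((hP.map _).of_equiv (Subgroup.subgroupOfEquivOfLe hRle).symm).exists_le_sylow
  obtain ⟨c2, hc2⟩ := MulAction.exists_smul_eq (Subgroup.centralizer ({dTwo F} : Set G)) T2 S2
  obtain ⟨g2, hg2⟩ : ∃ g2 : G, g2 = (c2 : G) * g1 := ⟨_, rfl⟩
  have hc2d : Commute (c2 : G) (dTwo F) := Subgroup.mem_centralizer_singleton_iff.mp c2.2
  have hg2P : ∀ u ∈ pSub F, g2 * u * g2⁻¹ ∈ pSub F := by
    intro u hu
    have hm : g1 * u * g1⁻¹ ∈ R := ⟨u, hu, rfl⟩
    have h := Subgroup.smul_mem_pointwise_smul (⟨_, hRle hm⟩ :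
        Subgroup.centralizer ({dTwo F} : Set G)) (MulAut.conj c2) (T2 : Subgroup (Subgroup.centralizer ({dTwo F} : Set G)))
      (hT2 (Subgroup.mem_subgroupOf.mpr hm))
    rw [← Sylow.coe_subgroup_smul] at h
    have h' : c2 * (⟨_, hRle hm⟩ : Subgroup.centralizer ({dTwo F} : Set G)) * c2⁻¹ ∈
        (S2 : Subgroup (Subgroup.centralizer ({dTwo F} : Set G))) := hc2 ▸ h
    rw [hS2, Subgroup.mem_subgroupOf] at h'
    convert h' using 1
    rw [hg2]
    simp only [Subgroup.coe_mul, Subgroup.coe_inv]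
    group
  have hg2d : g2 * dOne F * g2⁻¹ = dTwo F ∨ g2 * dOne F * g2⁻¹ = (dTwo F)⁻¹ := by
    have e : g2 * dOne F * g2⁻¹ = (c2 : G) * (g1 * dOne F * g1⁻¹) * (c2 : G)⁻¹ := by
      rw [hg2]; group
    rcases hg1 with h | h <;> rw [e, h]
    · left; rw [hc2d.eq, mul_inv_cancel_right]
    · right; rw [hc2d.inv_right.eq, mul_inv_cancel_right]
  -- `g2` normalises `P₀`, hence centralises `z`
  have hz : g2 * F.z = F.z * g2 := by
    have hpre : ∀ p ∈ pSub F, g2⁻¹ * p * g2 ∈ pSub F := by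
      intro p hp
      have : (pSub F).map (MulAut.conj g2).toMonoidHom = pSub F := by
        refine Subgroup.eq_of_le_of_card_ge (by rintro _ ⟨u, hu, rfl⟩; exact hg2P u hu) ?_
        rw [Subgroup.card_map_of_injective (MulAut.conj g2).injective]
      rw [← this] at hp
      obtain ⟨u, hu, rfl⟩ := hp
      show g2⁻¹ * (g2 * u * g2⁻¹) * g2 ∈ pSub F
      rwa [show g2⁻¹ * (g2 * u * g2⁻¹) * g2 = u by group]
    have hc : g2 * F.z * g2⁻¹ ∈ cZero F := by
      refine (mem_cZero F).mpr fun p hp => ?_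
      calc p * (g2 * F.z * g2⁻¹) = g2 * ((g2⁻¹ * p * g2) * F.z) * g2⁻¹ := by group
        _ = g2 * F.z * g2⁻¹ * p := by rw [pSub_z F (hpre p hp)]; group
    have h2 : orderOf (g2 * F.z * g2⁻¹) = 2 := by
      rw [orderOf_conj']; exact orderOf_eq_prime (by rw [pow_two, z_sq]) F.z_ne
    rcases hO.2.2.2 _ hc with h | h
    · exact absurd (hO.2.1.of_dvd_nat (h2 ▸ Subgroup.orderOf_dvd_natCard O h)) (by decide)
    · exact conj_fix_of_mem F (by
        have := pow_orderOf_eq_one (g2 * F.z * g2⁻¹)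
        rwa [h2, pow_two] at this) (hcon _ h)
  obtain ⟨k2, a, b, hk2⟩ := exists_hel F hz
  rw [hk2] at hg2d
  rw [show dOne F = F.mu (sX, sX) from rfl, hel_conj, hd2inv, dTwo, mu_eq, mu_eq] at hg2d
  obtain ⟨n1, n2, -, -⟩ := d_no_fuse k2 a b
  exact hg2d.elim n1 n2

end H63.UFour
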